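import Cfsg.Agent.SylowNumber.SeventeenPerm

/-!
A centreless group with Sylow numbers {18, 136, 153} is `PSL₂(17)` or `PGL₂(17)`.
-/

set_option autoImplicit false
set_option linter.style.haveILetI false
set_option linter.unusedSectionVars false

namespace CfsgLib.SylowNumber17

open Subgroup MulAction

universe u

section General

variable {G : Type u} [Group G] [Finite G]

theorem exists_le_card (H : Subgroup G) (p n : ℕ) [Fact p.Prime] (h : p ^ n ∣ Nat.card H) :
    ∃ Q ≤ H, Nat.card Q = p ^ n := by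
  obtain ⟨Q, hQ⟩ := Sylow.exists_subgroup_card_pow_prime (G := H) p h
  exact ⟨Q.map H.subtype, Subgroup.map_subtype_le Q,
    by rw [Subgroup.card_map_of_injective H.subtype_injective, hQ]⟩

variable {X : Type u} [Group X] [Finite X] {f : G →* X} (hf : Function.Surjective f)
include hf

theorem card_sylow_dvd (r : ℕ) [Fact r.Prime] :
    Nat.card (Sylow r X) ∣ Nat.card (Sylow r G) := by
  obtain ⟨R⟩ : Nonempty (Sylow r G) := inferInstance
  rw [(R.mapSurjective hf).card_eq_index_normalizer, R.card_eq_index_normalizer]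
  refine dvd_trans (Subgroup.index_dvd_of_le ?_) (Subgroup.index_map_dvd _ hf)
  intro y hy
  obtain ⟨g, hg, rfl⟩ := hy
  refine Subgroup.mem_normalizer_iff.2 fun z => ?_
  show z ∈ (R : Subgroup G).map f ↔ f g * z * (f g)⁻¹ ∈ (R : Subgroup G).map f
  constructor
  · rintro ⟨a, ha, rfl⟩
    exact ⟨g * a * g⁻¹, (Subgroup.mem_normalizer_iff.1 hg a).1 ha, by simp⟩
  · rintro ⟨a, ha, hae⟩
    refine ⟨g⁻¹ * a * g, (Subgroup.mem_normalizer_iff.1 hg _).2 (show g * (g⁻¹ * a * g) * g⁻¹ ∈ (R : Set G) by simpa [mul_assoc] using ha), ?_⟩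
    simp [hae, mul_assoc]

/-- When the quotient has as many Sylow subgroups, the kernel fixes each of them. -/
theorem ker_fixes (r : ℕ) [Fact r.Prime] (h : Nat.card (Sylow r X) = Nat.card (Sylow r G))
    {k : G} (hk : k ∈ f.ker) (R : Sylow r G) : k • R = R := by
  have hinj : Function.Injective (Sylow.mapSurjective hf : Sylow r G → Sylow r X) :=
    (((Sylow.mapSurjective_surjective hf r).bijective_of_nat_card_le h.ge)).1
  refine hinj (Sylow.ext ?_)
  rw [Sylow.coe_mapSurjective, Sylow.coe_mapSurjective, Sylow.coe_subgroup_smul]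
  have hk1 : f k = 1 := MonoidHom.mem_ker.1 hk
  ext y
  simp only [Subgroup.mem_map, Subgroup.mem_pointwise_smul_iff_inv_smul_mem]
  constructor
  · rintro ⟨a, ha, rfl⟩
    exact ⟨_, ha, by simp [MulAut.conj, hk1]⟩
  · rintro ⟨a, ha, rfl⟩
    exact ⟨k * a * k⁻¹, by simpa [MulAut.conj, mul_assoc] using ha, by simp [hk1]⟩

end General

section Normalised

variable {G : Type u} [Group G] [Finite G] {K : Subgroup G} [K.Normal] {r : ℕ} [Fact r.Prime]
  (hK : ∀ k ∈ K, ∀ R : Sylow r G, k • R = R)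
include hK

theorem le_sylow {Q : Subgroup G} (hQ : IsPGroup r Q) (hQK : Q ≤ K) (R : Sylow r G) :
    Q ≤ (R : Subgroup G) := by
  have hle : Q ≤ Subgroup.normalizer ((R : Subgroup G) : Set G) := fun k hk =>
    Sylow.smul_eq_iff_mem_normalizer.1 (hK k (hQK hk) R)
  have h1 : Q ⊓ Subgroup.normalizer ((R : Subgroup G) : Set G) = Q ⊓ R := hQ.inf_normalizer_sylow R
  rw [inf_eq_left.2 hle] at h1
  exact h1.le.trans inf_le_right

theorem normal_inf_sylow (R : Sylow r G) : (K ⊓ (R : Subgroup G)).Normal := by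
  refine ⟨fun n hn g => ?_⟩
  have hp : IsPGroup r ((K ⊓ (R : Subgroup G)).map (MulAut.conj g).toMonoidHom) :=
    (R.2.to_le inf_le_right).map _
  have hle : (K ⊓ (R : Subgroup G)).map (MulAut.conj g).toMonoidHom ≤ K := by
    rintro _ ⟨a, ha, rfl⟩
    exact (inferInstance : K.Normal).conj_mem a ha.1 g
  have hm : g * n * g⁻¹ ∈ (K ⊓ (R : Subgroup G)).map (MulAut.conj g).toMonoidHom :=
    ⟨n, hn, by simp⟩
  exact ⟨hle hm, le_sylow hK hp hle R hm⟩

end Normalised

theorem commute_of_disjoint {G : Type u} [Group G] {R M : Subgroup G} [M.Normal]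
    (hd : Disjoint R M) {x : G} (hx : x ∈ M) (hN : x ∈ Subgroup.normalizer (R : Set G)) {r : G}
    (hr : r ∈ R) : r * x = x * r := by
  have h1 : r * x * r⁻¹ * x⁻¹ ∈ M :=
    mul_mem ((inferInstance : M.Normal).conj_mem x hx r) (inv_mem hx)
  have h2 : r * x * r⁻¹ * x⁻¹ ∈ R := by
    have := mul_mem hr ((Subgroup.mem_normalizer_iff.1 hN r⁻¹).1 (inv_mem hr))
    simpa [mul_assoc] using this
  have h3 := Subgroup.disjoint_def.1 hd h2 h1
  calc r * x = r * x * r⁻¹ * x⁻¹ * (x * r) := by group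
    _ = x * r := by rw [h3, one_mul]

theorem prime_cases {r : ℕ} (hr : r.Prime) (h : r ∣ 2 * 2448) : r = 2 ∨ r = 3 ∨ r = 17 := by
  rw [show 2 * 2448 = 2 ^ 5 * 3 ^ 2 * 17 from by norm_num] at h
  rcases hr.dvd_mul.1 h with h | h
  · rcases hr.dvd_mul.1 h with h | h
    · exact Or.inl ((Nat.prime_dvd_prime_iff_eq hr Nat.prime_two).1 (hr.dvd_of_dvd_pow h))
    · exact Or.inr (Or.inl ((Nat.prime_dvd_prime_iff_eq hr Nat.prime_three).1 (hr.dvd_of_dvd_pow h)))
  · exact Or.inr (Or.inr ((Nat.prime_dvd_prime_iff_eq hr (by norm_num)).1 h))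

section Main

variable {G : Type u} [Group G] [Finite G]
  (hNS : {c : ℕ | ∃ r : ℕ, r.Prime ∧ r ∣ Nat.card G ∧ c = Nat.card (Sylow r G)} =
    ({18, 136, 153} : Set ℕ))
include hNS

theorem count_cases {r : ℕ} [Fact r.Prime] (hd : r ∣ Nat.card G) :
    (Nat.card (Sylow r G) = 18 ∧ r = 17) ∨
      (Nat.card (Sylow r G) = 136 ∧ r ∣ 135) ∨ (Nat.card (Sylow r G) = 153 ∧ r ∣ 152) := by
  have hm : Nat.card (Sylow r G) ∈ ({18, 136, 153} : Set ℕ) := hNS ▸ ⟨r, Fact.out, hd, rfl⟩
  have hmod : Nat.card (Sylow r G) ≡ 1 [MOD r] := card_sylow_modEq_one r G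
  have hdv := (Nat.modEq_iff_dvd' (Nat.card_pos)).1 hmod.symm
  simp only [Set.mem_insert_iff, Set.mem_singleton_iff] at hm
  rcases hm with h | h | h <;> rw [h] at hdv
  · exact Or.inl ⟨h, (Nat.prime_dvd_prime_iff_eq Fact.out (by norm_num : Nat.Prime 17)).1 hdv⟩
  · exact Or.inr (Or.inl ⟨h, hdv⟩)
  · exact Or.inr (Or.inr ⟨h, hdv⟩)

theorem card_sylow_seventeen : Nat.card (Sylow 17 G) = 18 := by
  obtain ⟨r, hr, hd, he⟩ : 18 ∈ {c : ℕ | ∃ r : ℕ, r.Prime ∧ r ∣ Nat.card G ∧
      c = Nat.card (Sylow r G)} := by rw [hNS]; simp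
  haveI : Fact r.Prime := ⟨hr⟩
  rcases count_cases hNS hd with ⟨h, rfl⟩ | ⟨h, -⟩ | ⟨h, -⟩
  · exact h
  · omega
  · omega

variable {X : Type u} [Group X] [Finite X] {f : G →* X} (hf : Function.Surjective f)
  (h17 : ∀ k ∈ f.ker, ∀ R : Sylow 17 G, k • R = R) (ι : P17 →* X) (hι : Function.Injective ι)
  (hidx : ι.range.index ∣ 2)
include hf h17 ι hι hidx

theorem fixes {r : ℕ} [Fact r.Prime] (hr : r ∣ 2 * 2448) :
    ∀ k ∈ f.ker, ∀ R : Sylow r G, k • R = R := by
  have hX : 2448 ∣ Nat.card X := by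
    have h := Subgroup.card_subgroup_dvd_card ι.range
    rwa [← Nat.card_congr (MonoidHom.ofInjective hι).toEquiv, card_P17] at h
  have hG : 2448 ∣ Nat.card G := hX.trans (Subgroup.card_dvd_of_surjective f hf)
  intro k hk R
  rcases prime_cases Fact.out hr with rfl | rfl | rfl
  · have hn : Nat.card (Sylow 2 G) = 153 := by
      rcases count_cases hNS (r := 2) ((by norm_num : 2 ∣ 2448).trans hG) with ⟨-, h⟩ | ⟨-, h⟩ | ⟨h, -⟩
      · norm_num at h
      · norm_num at h
      · exact h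
    exact ker_fixes hf 2 ((sylow_two ι hι hidx (hn ▸ card_sylow_dvd hf 2)).trans hn.symm) hk R
  · have hn : Nat.card (Sylow 3 G) = 136 := by
      rcases count_cases hNS (r := 3) ((by norm_num : 3 ∣ 2448).trans hG) with ⟨-, h⟩ | ⟨h, -⟩ | ⟨-, h⟩
      · norm_num at h
      · exact h
      · norm_num at h
    exact ker_fixes hf 3 ((sylow_three ι hι hidx (hn ▸ card_sylow_dvd hf 3)).trans hn.symm) hk R
  · exact h17 k hk R

theorem prime_of_ker {r : ℕ} [Fact r.Prime] (hd : r ∣ Nat.card f.ker) : r ∣ 2 * 2448 := by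
  by_contra hcon
  have hdG : r ∣ Nat.card G := hd.trans (Subgroup.card_subgroup_dvd_card _)
  set K := f.ker with hK
  obtain ⟨R⟩ : Nonempty (Sylow r G) := inferInstance
  have hRK : (R : Subgroup G) ≤ K := by
    rw [hK, ← Subgroup.map_eq_bot_iff, ← Subgroup.card_eq_one]
    obtain ⟨j, hj⟩ := IsPGroup.iff_card.1 (R.2.map f)
    rcases Nat.eq_zero_or_pos j with rfl | hj0
    · simpa using hj
    · exact absurd ((dvd_pow_self r (by omega)).trans (hj ▸
        ((Subgroup.card_subgroup_dvd_card _).trans (card_dvd ι hι hidx)))) hcon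
  set N := Subgroup.normalizer ((R : Subgroup G) : Set G) with hN
  have htop : N ⊔ K = ⊤ := by
    have := Sylow.normalizer_sup_eq_top (R.subtype hRK)
    rwa [Sylow.coe_subtype, Subgroup.map_subgroupOf_eq_of_le hRK] at this
  set L := K ⊓ N with hL
  have hcard : Nat.card K = Nat.card L * Nat.card (Sylow r G) := by
    have h1 := Subgroup.relIndex_mul_index (inf_le_right : L ≤ N)
    rw [Subgroup.inf_relIndex_right] at h1
    have h2 : K.relIndex N = K.index := by
      rw [← Subgroup.relIndex_sup_right, htop, Subgroup.relIndex_top_right]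
    have h3 := (K ⊓ N).card_mul_index
    have h4 : Nat.card (Sylow r G) = N.index := R.card_eq_index_normalizer
    rw [← h1, h2, ← K.card_mul_index, ← h4] at h3
    rw [hL]
    have h5 : 0 < K.index := Nat.pos_of_ne_zero Subgroup.index_ne_zero_of_finite
    exact Nat.eq_of_mul_eq_mul_right h5 (by rw [← h3]; ring)
  obtain ⟨m, hm, hn, hr16⟩ : ∃ m, ¬ 17 ∣ m ∧ Nat.card (Sylow r G) = 17 * m ∧ ¬ r ∣ 16 := by
    have h16 : ¬ r ∣ 16 := fun h => hcon (h.trans (by norm_num))
    rcases count_cases hNS hdG with ⟨-, h⟩ | ⟨h, -⟩ | ⟨h, -⟩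
    · exact absurd (h ▸ (by norm_num : 17 ∣ 2 * 2448)) hcon
    · exact ⟨8, by norm_num, h, h16⟩
    · exact ⟨9, by norm_num, h, h16⟩
  have h17' : r ≠ 17 := fun h => hcon (h ▸ by norm_num)
  obtain ⟨P⟩ : Nonempty (Sylow 17 G) := inferInstance
  haveI : (K ⊓ (P : Subgroup G)).Normal := normal_inf_sylow h17 P
  set M := K ⊓ (P : Subgroup G) with hM
  set a := (Nat.card L).factorization 17 with ha
  have hp17 : Nat.Prime 17 := Fact.out
  have hLne : Nat.card L ≠ 0 := Nat.card_pos.ne'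
  have hLdvd : ∀ j, 17 ^ j ∣ Nat.card L ↔ j ≤ a := fun j => hp17.pow_dvd_iff_le_factorization hLne
  have hKdvd : ∀ j, 17 ^ j ∣ Nat.card K ↔ j ≤ a + 1 := fun j => by
    rw [hp17.pow_dvd_iff_le_factorization Nat.card_pos.ne', hcard, hn]
    have hm0 : m ≠ 0 := fun e => hm (e ▸ dvd_zero 17)
    rw [Nat.factorization_mul hLne (by positivity), Nat.factorization_mul (by norm_num) hm0,
      Finsupp.add_apply, Finsupp.add_apply, hp17.factorization_self,
      Nat.factorization_eq_zero_of_not_dvd hm]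
  have hMc : Nat.card M = 17 ^ (a + 1) := by
    obtain ⟨b, hb⟩ := IsPGroup.iff_card.1 (P.2.to_le (inf_le_right : M ≤ (P : Subgroup G)))
    obtain ⟨Q, hQ, hQc⟩ := exists_le_card K 17 (a + 1) ((hKdvd _).2 le_rfl)
    have h1 := Subgroup.card_dvd_of_le
      (le_inf hQ (le_sylow h17 (IsPGroup.of_card hQc) hQ P) : Q ≤ M)
    have h2 : b ≤ a + 1 := (hKdvd b).1 (hb ▸ Subgroup.card_dvd_of_le (inf_le_left : M ≤ K))
    rw [hb, hQc, Nat.pow_dvd_pow_iff_le_right (by norm_num)] at h1
    rw [hb, le_antisymm h2 h1]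
  have hCc : Nat.card (M ⊓ N : Subgroup G) = 17 ^ a := by
    obtain ⟨b, hb⟩ := IsPGroup.iff_card.1
      (P.2.to_le (inf_le_left.trans inf_le_right : M ⊓ N ≤ (P : Subgroup G)))
    obtain ⟨Q, hQ, hQc⟩ := exists_le_card L 17 a ((hLdvd _).2 le_rfl)
    have hQK : Q ≤ K := hQ.trans inf_le_left
    have h1 := Subgroup.card_dvd_of_le (le_inf (le_inf hQK
      (le_sylow h17 (IsPGroup.of_card hQc) hQK P)) (hQ.trans inf_le_right) : Q ≤ M ⊓ N)
    have h2 : b ≤ a := (hLdvd b).1 (hb ▸ Subgroup.card_dvd_of_le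
      (inf_le_inf_right N inf_le_left : M ⊓ N ≤ L))
    rw [hb, hQc, Nat.pow_dvd_pow_iff_le_right (by norm_num)] at h1
    rw [hb, le_antisymm h2 h1]
  have hdis : Disjoint (R : Subgroup G) M :=
    IsPGroup.disjoint_of_ne r 17 h17' _ _ R.2 (P.2.to_le inf_le_right)
  letI : MulAction R M :=
    MulAction.compHom M ((MulAut.conjNormal (H := M)).comp (R : Subgroup G).subtype)
  have hact : ∀ (g : R) (x : M), ((g • x : M) : G) = g * x * (g : G)⁻¹ := fun g x =>
    MulAut.conjNormal_apply _ _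
  have hfix : Nat.card (fixedPoints R M) = Nat.card (M ⊓ N : Subgroup G) := by
    refine Nat.card_congr
      { toFun := fun x => ⟨((x : M) : G), (x : M).2, ?_⟩
        invFun := fun x => ⟨⟨x.1, x.2.1⟩, fun g => Subtype.ext ?_⟩
        left_inv := fun x => rfl
        right_inv := fun x => rfl }
    · have hc : ∀ g ∈ (R : Subgroup G), g * (x : M) = ((x : M) : G) * g := fun g hg => by
        have h1 := congrArg Subtype.val (x.2 ⟨g, hg⟩)
        rw [hact] at h1
        exact mul_inv_eq_iff_eq_mul.1 h1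
      refine Subgroup.mem_normalizer_iff.2 fun g => ?_
      constructor
      · intro hg
        rw [← hc g hg, mul_inv_cancel_right]
        exact hg
      · intro hg
        have h2 := hc _ hg
        have h3 : ((x : M) : G) * g * ((x : M) : G)⁻¹ = g := by
          have := congrArg (fun t => ((x : M) : G)⁻¹ * t) h2
          simpa [mul_assoc] using this.symm
        rwa [h3] at hg
    · rw [hact]
      exact mul_inv_eq_iff_eq_mul.2 (commute_of_disjoint hdis x.2.1 x.2.2 g.2)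
  have hmod := R.2.card_modEq_card_fixedPoints M
  rw [hfix, hCc, hMc] at hmod
  have h2 := (Nat.modEq_iff_dvd' (Nat.pow_le_pow_right (by norm_num) (Nat.le_succ a))).1 hmod.symm
  rw [pow_succ, ← Nat.mul_sub_one] at h2
  rcases (Fact.out : r.Prime).dvd_mul.1 h2 with h | h
  · exact h17' ((Nat.prime_dvd_prime_iff_eq Fact.out hp17).1
      ((Fact.out : r.Prime).dvd_of_dvd_pow h))
  · exact hr16 h

theorem ker_eq_bot (hZ : Subgroup.center G = ⊥) : f.ker = ⊥ := by
  by_contra hne
  set K := f.ker with hK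
  have hc1 : Nat.card K ≠ 1 := fun e => hne (Subgroup.card_eq_one.1 e)
  obtain ⟨s, hs, hsK⟩ := Nat.exists_prime_and_dvd hc1
  haveI : Fact s.Prime := ⟨hs⟩
  have hs' := prime_of_ker hNS hf h17 ι hι hidx hsK
  have hfixs := fixes hNS hf h17 ι hι hidx hs'
  obtain ⟨R⟩ : Nonempty (Sylow s G) := inferInstance
  haveI : (K ⊓ (R : Subgroup G)).Normal := normal_inf_sylow hfixs R
  set M := K ⊓ (R : Subgroup G) with hM
  have hsM : s ∣ Nat.card M := by
    obtain ⟨x, hx⟩ := exists_prime_orderOf_dvd_card' s hsK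
    have hp : IsPGroup s (zpowers (x : G)) := IsPGroup.of_card (n := 1) (by
      rw [Nat.card_zpowers, Subgroup.orderOf_coe, hx, pow_one])
    have hle : zpowers (x : G) ≤ K := zpowers_le.2 x.2
    have := Subgroup.card_dvd_of_le (le_inf hle (le_sylow hfixs hp hle R) : zpowers (x : G) ≤ M)
    rwa [Nat.card_zpowers, Subgroup.orderOf_coe, hx] at this
  letI : MulAction R M :=
    MulAction.compHom M ((MulAut.conjNormal (H := M)).comp (R : Subgroup G).subtype)
  have hact : ∀ (g : R) (x : M), ((g • x : M) : G) = g * x * (g : G)⁻¹ := fun g x =>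
    MulAut.conjNormal_apply _ _
  have h1fix : (1 : M) ∈ fixedPoints R M := fun g => Subtype.ext (by rw [hact]; simp)
  obtain ⟨z, hz, hz1⟩ :=
    R.2.exists_fixed_point_of_prime_dvd_card_of_fixed_point M hsM h1fix
  set C := Subgroup.centralizer {(z : G)} with hC
  have hmemC : ∀ {g : G}, g * z = z * g → g ∈ C := fun h =>
    Subgroup.mem_centralizer_singleton_iff.2 h
  have hRC : (R : Subgroup G) ≤ C := fun g hg => by
    have h1 := congrArg Subtype.val (hz ⟨g, hg⟩)
    rw [hact] at h1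
    exact hmemC (mul_inv_eq_iff_eq_mul.1 h1)
  have hotherC : ∀ (t : ℕ) [Fact t.Prime], t ∣ 2 * 2448 → t ≠ s → ∀ S : Sylow t G,
      (S : Subgroup G) ≤ C := by
    intro t _ ht hts S g hg
    have hzK : (z : G) ∈ K := (Subgroup.mem_inf.1 z.2).1
    have hzN := Sylow.smul_eq_iff_mem_normalizer.1 (fixes hNS hf h17 ι hι hidx ht _ hzK S)
    exact hmemC (commute_of_disjoint
      (IsPGroup.disjoint_of_ne t s hts _ _ S.2 (R.2.to_le inf_le_right)) z.2 hzN hg)
  have hKC : K ≤ C := by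
    suffices Nat.card K ∣ Nat.card (C ⊓ K : Subgroup G) from
      (Subgroup.eq_of_le_of_card_ge inf_le_right (Nat.le_of_dvd Nat.card_pos this)).ge.trans inf_le_left
    refine (Nat.dvd_iff_prime_pow_dvd_dvd _ _).2 fun p j hp hpj => ?_
    rcases Nat.eq_zero_or_pos j with rfl | hj
    · simp
    haveI : Fact p.Prime := ⟨hp⟩
    have hp' := prime_of_ker hNS hf h17 ι hι hidx ((dvd_pow_self p (by omega)).trans hpj)
    obtain ⟨Q, hQ, hQc⟩ := exists_le_card K p j hpj
    rw [← hQc]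
    refine Subgroup.card_dvd_of_le (le_inf ?_ hQ)
    by_cases hps : p = s
    · subst hps
      exact (le_sylow hfixs (IsPGroup.of_card hQc) hQ R).trans hRC
    · obtain ⟨S⟩ : Nonempty (Sylow p G) := inferInstance
      exact (le_sylow (fixes hNS hf h17 ι hι hidx hp') (IsPGroup.of_card hQc) hQ S).trans
        (hotherC p hp' hps S)
  have hmap : C.map f = ⊤ := by
    have hgen : ∀ (t : ℕ) [Fact t.Prime], t ∣ 2448 → t ≠ s → ι.range ≤ C.map f := by
      intro t _ ht hts
      refine range_le_iSup ι hι ht _ fun S => ?_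
      obtain ⟨S₀, rfl⟩ := Sylow.mapSurjective_surjective hf t S
      rw [Sylow.coe_mapSurjective]
      exact Subgroup.map_mono (hotherC t (ht.trans (Dvd.intro_left 2 rfl)) hts S₀)
    haveI : Fact (Nat.Prime 2) := ⟨Nat.prime_two⟩
    haveI : Fact (Nat.Prime 3) := ⟨Nat.prime_three⟩
    by_cases hs2 : s = 2
    · subst hs2
      rw [eq_top_iff, ← sylow_two_sup ι hι hidx (R.mapSurjective hf)]
      refine sup_le (hgen 3 (by norm_num) (by norm_num)) ?_
      rw [Sylow.coe_mapSurjective]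
      exact Subgroup.map_mono hRC
    · obtain ⟨S⟩ : Nonempty (Sylow 2 G) := inferInstance
      rw [eq_top_iff, ← sylow_two_sup ι hι hidx (S.mapSurjective hf)]
      refine sup_le (hgen 2 (by norm_num) (Ne.symm hs2)) ?_
      rw [Sylow.coe_mapSurjective]
      exact Subgroup.map_mono (hotherC 2 (by norm_num) (Ne.symm hs2) S)
  have htop : C = ⊤ := by
    rw [← Subgroup.comap_map_eq_self hKC, hmap, Subgroup.comap_top]
  have hzc : (z : G) ∈ Subgroup.center G := Subgroup.mem_center_iff.2 fun g =>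
    Subgroup.mem_centralizer_singleton_iff.1 (htop ▸ Subgroup.mem_top g : g ∈ C)
  rw [hZ, Subgroup.mem_bot] at hzc
  exact hz1 (Subtype.ext hzc).symm

end Main

theorem recognition {G : Type u} [Group G] [Finite G] (hZ : Subgroup.center G = ⊥)
    (hNS : {c : ℕ | ∃ r : ℕ, r.Prime ∧ r ∣ Nat.card G ∧ c = Nat.card (Sylow r G)} =
      ({18, 136, 153} : Set ℕ)) :
    Nonempty (G ≃* P17) ∨ Nonempty (G ≃* Matrix.ProjGenLinGroup (Fin 2) (ZMod 17)) := by
  obtain ⟨hX, ι, hι, hidx⟩ := classify_image (card_sylow_seventeen hNS)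
  have hker := ker_eq_bot hNS imageHom_surjective
    (fun k hk R => mem_ker_imageHom hk R) ι hι hidx hZ
  let e := MulEquiv.ofBijective (imageHom G)
    ⟨(MonoidHom.ker_eq_bot_iff _).1 hker, imageHom_surjective⟩
  exact hX.imp (fun ⟨d⟩ => ⟨e.trans d⟩) (fun ⟨d⟩ => ⟨e.trans d⟩)

end CfsgLib.SylowNumber17
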