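import Mathlib.GroupTheory.Sylow
import Mathlib.GroupTheory.Transfer
import Mathlib.GroupTheory.GroupAction.Quotient

/-!
General lemmas on Sylow numbers: passing to subgroups and quotients, transfer consequences.
-/

set_option autoImplicit false
set_option linter.style.haveILetI false

namespace CfsgLib.SylowNumber

open Subgroup MulAction

variable {G : Type*} [Group G] [Finite G] {p : ℕ} [Fact p.Prime]

/-- A normal subgroup of index prime to `p` has the same Sylow number. -/
theorem card_sylow_normal (M : Subgroup G) [M.Normal] (h : ¬ p ∣ M.index) :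
    Nat.card (Sylow p M) = Nat.card (Sylow p G) := by
  have hle : ∀ P : Sylow p G, (P : Subgroup G) ≤ M := by
    intro P x hx
    obtain ⟨k, hk⟩ := P.2 ⟨x, hx⟩
    have h2 : x ^ p ^ k = 1 := congrArg Subtype.val hk
    have h3 : orderOf ((x : G) : G ⧸ M) ∣ p ^ k :=
      orderOf_dvd_of_pow_eq_one (by rw [← QuotientGroup.mk_pow, h2]; rfl)
    have h4 : orderOf ((x : G) : G ⧸ M) ∣ M.index := orderOf_dvd_natCard _
    have h5 := Nat.eq_one_of_dvd_coprimes
      (Nat.Coprime.pow_left k ((Fact.out : p.Prime).coprime_iff_not_dvd.2 h)) h3 h4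
    rwa [orderOf_eq_one_iff, QuotientGroup.eq_one_iff] at h5
  refine (Nat.card_congr (Equiv.ofBijective (fun P : Sylow p G => P.subtype (hle P)) ⟨?_, ?_⟩)).symm
  · exact fun P Q h => Sylow.subtype_injective h
  · intro R
    obtain ⟨P, hP⟩ := Sylow.exists_comap_subtype_eq R
    exact ⟨P, Sylow.ext hP⟩

/-- The kernel of the action on the Sylow `p`-subgroups. -/
abbrev sylowKernel (p : ℕ) (G : Type*) [Group G] : Subgroup G :=
  (MulAction.toPermHom G (Sylow p G)).ker

/-- Passing to the group induced on the Sylow subgroups keeps the Sylow number and makes the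
action faithful. -/
theorem exists_faithful (p : ℕ) [Fact p.Prime] (G : Type*) [Group G] [Finite G] :
    Nat.card (Sylow p (G ⧸ sylowKernel p G)) = Nat.card (Sylow p G) ∧
      ∀ x : G ⧸ sylowKernel p G, (∀ P : Sylow p (G ⧸ sylowKernel p G), x • P = P) → x = 1 := by
  set K := sylowKernel p G
  have hf := QuotientGroup.mk'_surjective K
  have hK : ∀ k ∈ K, ∀ P : Sylow p G, k • P = P := fun k hk P =>
    Equiv.ext_iff.1 (MonoidHom.mem_ker.1 hk) P
  have hinj : Function.Injective (fun P : Sylow p G => P.mapSurjective hf) := by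
    intro P Q h
    have h1 : (P : Subgroup G).map (QuotientGroup.mk' K) = (Q : Subgroup G).map (QuotientGroup.mk' K) := by
      rw [← Sylow.coe_mapSurjective hf P, ← Sylow.coe_mapSurjective hf Q]
      exact congrArg _ h
    have hQ : (Q : Subgroup G) ≤ Subgroup.normalizer (P : Set G) := by
      intro q hq
      have hq' : QuotientGroup.mk' K q ∈ (P : Subgroup G).map (QuotientGroup.mk' K) :=
        h1 ▸ Subgroup.mem_map_of_mem _ hq
      obtain ⟨x, hx, hxq⟩ := hq'
      obtain ⟨k, hk, rfl⟩ := (QuotientGroup.mk'_eq_mk' K).1 hxq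
      exact mul_mem (le_normalizer hx) (Sylow.smul_eq_iff_mem_normalizer.1 (hK k hk P))
    have := Q.2.inf_normalizer_sylow P
    rw [inf_eq_left.2 hQ] at this
    exact Sylow.ext (Q.3 P.2 (this.le.trans inf_le_right))
  have hbij : Function.Bijective (fun P : Sylow p G => P.mapSurjective hf) :=
    ⟨hinj, Sylow.mapSurjective_surjective hf p⟩
  refine ⟨(Nat.card_congr (Equiv.ofBijective _ hbij)).symm, fun x hx => ?_⟩
  obtain ⟨g, rfl⟩ := hf x
  refine (QuotientGroup.eq_one_iff g).2 (MonoidHom.mem_ker.2 (Equiv.ext fun P => ?_))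
  apply hinj
  refine Eq.trans ?_ (hx (P.mapSurjective hf))
  apply Sylow.ext
  show ((g • P : Sylow p G) : Subgroup G).map (QuotientGroup.mk' K) = _
  rw [Sylow.coe_subgroup_smul, Sylow.coe_subgroup_smul, Sylow.coe_mapSurjective]
  ext y
  simp only [Subgroup.mem_map, Subgroup.mem_pointwise_smul_iff_inv_smul_mem]
  constructor
  · rintro ⟨a, ha, rfl⟩
    refine ⟨_, ha, ?_⟩
    simp [MulAut.conj]
  · rintro ⟨a, ha, hay⟩
    refine ⟨g * a * g⁻¹, by simpa [MulAut.conj, mul_assoc] using ha, ?_⟩
    have := congrArg (fun w => QuotientGroup.mk' K g * w * (QuotientGroup.mk' K g)⁻¹) hay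
    simpa [MulAut.conj, map_mul, map_inv, mul_assoc] using this

/-- The Sylow number divides the index of any Sylow subgroup of a subgroup version. -/
theorem card_sylow_dvd_of_card (m e : ℕ) (hm : ¬ p ∣ m) (h : Nat.card G = p ^ e * m) :
    Nat.card (Sylow p G) ∣ m := by
  obtain ⟨P⟩ : Nonempty (Sylow p G) := inferInstance
  have hf : (Nat.card G).factorization p = e := by
    have hp : p.Prime := Fact.out
    have hm0 : m ≠ 0 := fun e0 => hm (e0 ▸ dvd_zero p)
    rw [h, Nat.factorization_mul (pow_ne_zero _ hp.ne_zero) hm0, Finsupp.add_apply,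
      hp.factorization_pow, Finsupp.single_eq_same, Nat.factorization_eq_zero_of_not_dvd hm,
      add_zero]
  have h2 := (P : Subgroup G).card_mul_index
  rw [P.card_eq_multiplicity, hf, h] at h2
  exact (Nat.eq_of_mul_eq_mul_left (pow_pos (Fact.out : p.Prime).pos e) h2) ▸ P.card_dvd_index

/-- If a Sylow subgroup of order `p` has no nontrivial automizer of order dividing `|G|`, there is a
normal subgroup of index `p`. -/
theorem exists_normal_index_prime {e : ℕ} (h : Nat.card G = p * e) (he : ¬ p ∣ e)
    (hco : (Nat.card G).Coprime (p - 1)) : ∃ M : Subgroup G, M.Normal ∧ M.index = p ∧ Nat.card M = e := by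
  obtain ⟨P⟩ : Nonempty (Sylow p G) := inferInstance
  have hp : p.Prime := Fact.out
  have he0 : e ≠ 0 := fun e0 => he (e0 ▸ dvd_zero p)
  have hP : Nat.card P = p := by
    rw [P.card_eq_multiplicity, h, Nat.factorization_mul hp.ne_zero he0, Finsupp.add_apply,
      hp.factorization_self, Nat.factorization_eq_zero_of_not_dvd he, add_zero, pow_one]
  haveI hcyc : IsCyclic P := isCyclic_of_prime_card hP
  have hN : Subgroup.normalizer ((P : Subgroup G) : Set G) ≤ Subgroup.centralizer ((P : Subgroup G) : Set G) := by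
    have key := card_dvd_of_injective _ (QuotientGroup.kerLift_injective (P : Subgroup G).normalizerMonoidHom)
    rw [Subgroup.normalizerMonoidHom_ker, ← Subgroup.index, ← Subgroup.relIndex, hcyc.card_mulAut, hP,
      Nat.totient_prime hp] at key
    exact Subgroup.relIndex_eq_one.1 (Nat.eq_one_of_dvd_coprimes hco
      ((Subgroup.relIndex_dvd_card _ _).trans (Subgroup.card_subgroup_dvd_card _)) key)
  refine ⟨(MonoidHom.transferSylow P hN).ker, inferInstance, ?_, ?_⟩
  · rw [(MonoidHom.ker_transferSylow_isComplement' P hN).symm.index_eq_card, hP]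
  · have h1 := (MonoidHom.ker_transferSylow_isComplement' P hN).card_mul_card
    rw [hP, h, mul_comm] at h1
    exact Nat.eq_of_mul_eq_mul_left hp.pos h1

end CfsgLib.SylowNumber
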