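import Mathlib.GroupTheory.Perm.Cycle.Type
import Mathlib.Data.Fintype.Perm
import Mathlib.Data.Finite.Perm
import Mathlib.Algebra.Field.ZMod
import Mathlib.RingTheory.IntegralDomain
import Mathlib.GroupTheory.SpecificGroups.Cyclic
import Mathlib.GroupTheory.IndexNormal
import Mathlib.GroupTheory.GroupAction.Blocks
import Mathlib.Combinatorics.Enumerative.DoubleCounting
import Mathlib.Tactic.NormNum.Prime
import Cfsg.Agent.SylowNumber.Basic
import Cfsg.Agent.Transfer.Basic

/-!
There is no finite group with exactly 35 Sylow 17-subgroups.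
-/

set_option autoImplicit false
set_option linter.style.haveILetI false

namespace CfsgLib.SylowNumber35

open Subgroup MulAction

instance fact_prime_seventeen : Fact (Nat.Prime 17) := ⟨by norm_num⟩

section
variable {X : Type*} [Group X] [Finite X]

/-- With `35` Sylow 17-subgroups, two distinct ones meet in a subgroup of index `17`. -/
theorem relIndex_eq_seventeen (hn : Nat.card (Sylow 17 X) = 35) {P Q : Sylow 17 X} (h : Q ≠ P) :
    (Q : Subgroup X).relIndex (P : Subgroup X) = 17 := by
  have hP : (P : Subgroup X) ⊓ Subgroup.normalizer (Q : Set X) = (P : Subgroup X) ⊓ Q :=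
    P.2.inf_normalizer_sylow Q
  have hst : stabilizer (P : Subgroup X) Q = (Q : Subgroup X).subgroupOf (P : Subgroup X) := by
    ext x
    rw [mem_stabilizer_iff, Subgroup.smul_def, Sylow.smul_eq_iff_mem_normalizer, mem_subgroupOf]
    constructor
    · intro hx
      have : (x : X) ∈ (P : Subgroup X) ⊓ Subgroup.normalizer (Q : Set X) := ⟨x.2, hx⟩
      rw [hP] at this
      exact this.2
    · exact fun hx => le_normalizer hx
  have hsize : Nat.card (orbit (P : Subgroup X) Q) = (Q : Subgroup X).relIndex (P : Subgroup X) := by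
    rw [Subgroup.relIndex, ← hst, MulAction.index_stabilizer, Nat.card_coe_set_eq]
  obtain ⟨k, hk⟩ := P.2.index ((Q : Subgroup X).subgroupOf (P : Subgroup X))
  change (Q : Subgroup X).relIndex (P : Subgroup X) = 17 ^ k at hk
  have hle : Nat.card (orbit (P : Subgroup X) Q) ≤ 34 := by
    have hPnot : P ∉ orbit (P : Subgroup X) Q := by
      rintro ⟨x, hx⟩
      apply h
      have hx' : (x : X) • Q = P := hx
      have hself : (x : X)⁻¹ • P = P :=
        Sylow.smul_eq_iff_mem_normalizer.2 (inv_mem (le_normalizer x.2))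
      calc Q = (x : X)⁻¹ • ((x : X) • Q) := (inv_smul_smul _ _).symm
        _ = P := by rw [hx', hself]
    rw [Nat.card_coe_set_eq]
    have h2 : orbit (P : Subgroup X) Q ⊆ ({P} : Set (Sylow 17 X))ᶜ := fun R hR e => hPnot (e ▸ hR)
    refine le_trans (Set.ncard_le_ncard h2 (Set.toFinite _)) ?_
    rw [Set.ncard_compl, Set.ncard_singleton, hn]
  rw [hsize, hk] at hle
  rcases k with _ | _ | k
  · exfalso
    have h3 : (P : Subgroup X) ≤ Q := Subgroup.relIndex_eq_one.1 (by simpa using hk)
    exact h (Sylow.ext (P.3 Q.2 h3))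
  · simpa using hk
  · exfalso
    have : 17 ^ 2 ≤ 17 ^ (k + 1 + 1) := Nat.pow_le_pow_right (by norm_num) (by omega)
    omega

theorem orbit_ncard (hn : Nat.card (Sylow 17 X) = 35) {P T : Sylow 17 X} (hT : T ≠ P) :
    (orbit (P : Subgroup X) T).ncard = 17 := by
  refine Eq.trans ?_ (relIndex_eq_seventeen hn hT)
  rw [← MulAction.index_stabilizer, Subgroup.relIndex]
  congr 1
  ext x
  rw [mem_stabilizer_iff, Subgroup.smul_def, Sylow.smul_eq_iff_mem_normalizer, mem_subgroupOf]
  exact ⟨fun hx => ((P.2.inf_normalizer_sylow T).le ⟨x.2, hx⟩).2, fun hx => le_normalizer hx⟩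

theorem inf_normal_in (hn : Nat.card (Sylow 17 X) = 35) {P Q : Sylow 17 X} (h : Q ≠ P) :
    (P : Subgroup X) ≤ Subgroup.normalizer (((P : Subgroup X) ⊓ Q : Subgroup X) : Set X) := by
  have h1 : ((Q : Subgroup X).subgroupOf (P : Subgroup X)).index = 17 := relIndex_eq_seventeen hn h
  haveI : ((Q : Subgroup X).subgroupOf (P : Subgroup X)).Normal := by
    refine Subgroup.normal_of_index_eq_minFac_card ?_
    obtain ⟨j, hj⟩ := IsPGroup.iff_card.1 P.2
    rcases j with _ | j
    · have := h1 ▸ ((Q : Subgroup X).subgroupOf (P : Subgroup X)).index_dvd_card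
      rw [hj] at this; norm_num at this
    · rw [h1, hj, Nat.pow_minFac (by omega), (Fact.out : Nat.Prime 17).minFac_eq]
  have h2 := (Subgroup.normal_subgroupOf_iff_le_normalizer (inf_le_left : (P : Subgroup X) ⊓ Q ≤ P)).1
    (by rwa [Subgroup.inf_subgroupOf_left])
  exact h2

/-- The points of the `P`-orbit of `Q` contain `P ∩ Q`. -/
theorem inf_le_smul (hn : Nat.card (Sylow 17 X) = 35) {P Q : Sylow 17 X} (h : Q ≠ P) {u : X}
    (hu : u ∈ (P : Subgroup X)) : (P : Subgroup X) ⊓ Q ≤ ((u • Q : Sylow 17 X) : Subgroup X) := by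
  intro d hd
  rw [Sylow.coe_subgroup_smul, Subgroup.mem_pointwise_smul_iff_inv_smul_mem, ← map_inv,
    MulAut.smul_def, MulAut.conj_apply, inv_inv]
  exact ((Subgroup.mem_normalizer_iff''.1 (inf_normal_in hn h hu) d).1 hd).2

/-- If `Q` and `R` lie in different `P`-orbits, no nontrivial element is in `P`, `Q` and `R`. -/
theorem orbit_cover (hn : Nat.card (Sylow 17 X) = 35) {P Q R : Sylow 17 X} (hQ : Q ≠ P) (hR : R ≠ P)
    (hQR : R ∉ orbit (P : Subgroup X) Q) (S : Sylow 17 X) :
    S = P ∨ S ∈ orbit (P : Subgroup X) Q ∨ S ∈ orbit (P : Subgroup X) R := by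
  have size : ∀ T : Sylow 17 X, T ≠ P → (orbit (P : Subgroup X) T).ncard = 17 :=
    fun T hT => orbit_ncard hn hT
  have notP : ∀ T : Sylow 17 X, T ≠ P → P ∉ orbit (P : Subgroup X) T := by
    rintro T hT ⟨x, hx⟩
    apply hT
    have hself : (x : X)⁻¹ • P = P :=
      Sylow.smul_eq_iff_mem_normalizer.2 (inv_mem (le_normalizer x.2))
    calc T = (x : X)⁻¹ • ((x : X) • T) := (inv_smul_smul _ _).symm
      _ = P := by rw [show (x : X) • T = P from hx, hself]
  have hdis : Disjoint (orbit (P : Subgroup X) Q) (orbit (P : Subgroup X) R) :=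
    (MulAction.orbit.eq_or_disjoint Q R).resolve_left fun e => hQR (e ▸ mem_orbit_self R)
  have hall : (({P} : Set (Sylow 17 X)) ∪ (orbit (P : Subgroup X) Q ∪ orbit (P : Subgroup X) R)) = Set.univ := by
    refine Set.eq_of_subset_of_ncard_le (Set.subset_univ _) ?_ (Set.toFinite _)
    rw [Set.ncard_union_eq (by simp [notP Q hQ, notP R hR]), Set.ncard_singleton,
      Set.ncard_union_eq hdis, size Q hQ, size R hR, Set.ncard_univ, hn]
  have := Set.eq_univ_iff_forall.1 hall S
  simpa using this

theorem exists_two (hn : Nat.card (Sylow 17 X) = 35) (P : Sylow 17 X) :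
    ∃ Q R : Sylow 17 X, Q ≠ P ∧ R ≠ P ∧ R ∉ orbit (P : Subgroup X) Q := by
  classical
  haveI : Nontrivial (Sylow 17 X) := Finite.one_lt_card_iff_nontrivial.1 (by omega)
  obtain ⟨Q, hQ⟩ := exists_ne P
  by_contra hno
  push Not at hno
  have hall : Set.univ ⊆ ({P} : Set (Sylow 17 X)) ∪ orbit (P : Subgroup X) Q := by
    intro R _
    by_cases hR : R = P
    · exact Or.inl hR
    · exact Or.inr (hno Q R hQ hR)
  have := (Set.ncard_le_ncard hall (Set.toFinite _)).trans (Set.ncard_union_le _ _)
  rw [Set.ncard_univ, hn, Set.ncard_singleton] at this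
  have hsz := orbit_ncard hn hQ
  omega

variable (hfaith : ∀ x : X, (∀ P : Sylow 17 X, x • P = P) → x = 1)
include hfaith

theorem inf_inf_eq_bot (hn : Nat.card (Sylow 17 X) = 35) {P Q R : Sylow 17 X} (hQ : Q ≠ P)
    (hR : R ≠ P) (hQR : R ∉ orbit (P : Subgroup X) Q) :
    ((P : Subgroup X) ⊓ Q) ⊓ ((P : Subgroup X) ⊓ R) = ⊥ := by
  rw [eq_bot_iff]
  intro x hx
  rw [Subgroup.mem_bot]
  refine hfaith x fun S => Sylow.smul_eq_iff_mem_normalizer.2 ?_
  rcases orbit_cover hn hQ hR hQR S with rfl | ⟨u, rfl⟩ | ⟨u, rfl⟩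
  · exact le_normalizer hx.1.1
  · exact le_normalizer (inf_le_smul hn hQ u.2 hx.1)
  · exact le_normalizer (inf_le_smul hn hR u.2 hx.2)

theorem card_sylow_subgroup (hn : Nat.card (Sylow 17 X) = 35) (P : Sylow 17 X) :
    Nat.card P = 17 ∨ Nat.card P = 289 := by
  obtain ⟨Q, R, hQ, hR, hQR⟩ := exists_two hn P
  have hbot := inf_inf_eq_bot hfaith hn hQ hR hQR
  have hle : Nat.card P ≤ 289 := by
    have h1 : ((P : Subgroup X) ⊓ Q).relIndex (P : Subgroup X) = 17 := by
      rw [Subgroup.inf_relIndex_left]; exact relIndex_eq_seventeen hn hQ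
    have h2 : ((P : Subgroup X) ⊓ R).relIndex (P : Subgroup X) = 17 := by
      rw [Subgroup.inf_relIndex_left]; exact relIndex_eq_seventeen hn hR
    have h3 := Subgroup.relIndex_inf_le (H := (P : Subgroup X) ⊓ Q) (K := (P : Subgroup X) ⊓ R)
      (L := (P : Subgroup X))
    rw [hbot, h1, h2, Subgroup.relIndex_bot_left] at h3
    exact h3
  obtain ⟨j, hj⟩ := IsPGroup.iff_card.1 P.2
  have h7 : 17 ∣ Nat.card P := by
    have h := Subgroup.relIndex_dvd_card (Q : Subgroup X) (P : Subgroup X)
    rwa [relIndex_eq_seventeen hn hQ] at h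
  rcases j with _ | _ | _ | j
  · rw [hj] at h7; norm_num at h7
  · exact Or.inl (by rw [hj]; norm_num)
  · exact Or.inr (by rw [hj]; norm_num)
  · exfalso
    have h4 : 17 ^ 3 ≤ Nat.card P := by rw [hj]; exact Nat.pow_le_pow_right (by norm_num) (by omega)
    norm_num at h4
    omega

theorem not_card_289 (hn : Nat.card (Sylow 17 X) = 35) (P₀ : Sylow 17 X) (h49 : Nat.card P₀ = 289) :
    False := by
  classical
  haveI := Fintype.ofFinite X
  haveI := Fintype.ofFinite (Sylow 17 X)
  haveI := Fintype.ofFinite (Subgroup X)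
  have hcard : ∀ P : Sylow 17 X, Nat.card P = 289 := fun P =>
    (Nat.card_congr (P₀.equiv P).toEquiv).symm.trans h49
  have hD : ∀ {P Q : Sylow 17 X}, Q ≠ P → Nat.card ((P : Subgroup X) ⊓ Q : Subgroup X) = 17 := by
    intro P Q h
    have h1 := Subgroup.relIndex_mul_relIndex ⊥ ((P : Subgroup X) ⊓ Q) P bot_le inf_le_left
    rw [Subgroup.relIndex_bot_left, Subgroup.relIndex_bot_left, Subgroup.inf_relIndex_left,
      relIndex_eq_seventeen hn h, hcard P] at h1
    omega
  let 𝒟 : Finset (Subgroup X) := Finset.univ.filter fun D =>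
    ∃ P Q : Sylow 17 X, Q ≠ P ∧ (P : Subgroup X) ⊓ Q = D
  let r : Sylow 17 X → Subgroup X → Prop := fun S D => D ≤ (S : Subgroup X)
  -- each member lies in eight Sylow subgroups
  have eight : ∀ {P Q R : Sylow 17 X}, Q ≠ P → R ≠ P → R ∉ orbit (P : Subgroup X) Q →
      ∀ S : Sylow 17 X, ((P : Subgroup X) ⊓ Q ≤ S) ↔ (S = P ∨ S ∈ orbit (P : Subgroup X) Q) := by
    intro P Q R hQ hR hQR S
    constructor
    · intro hS
      rcases orbit_cover hn hQ hR hQR S with h | h | ⟨u, rfl⟩
      · exact Or.inl h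
      · exact Or.inr h
      · exfalso
        have hRne : (u : X) • R ≠ P := fun e => hR (by
          rw [← inv_smul_smul (u : X) R, e]
          exact Sylow.smul_eq_iff_mem_normalizer.2 (inv_mem (le_normalizer u.2)))
        have hle : (P : Subgroup X) ⊓ Q ≤ (P : Subgroup X) ⊓ R := by
          refine le_inf inf_le_left fun d hd => ?_
          have h1 := inf_le_smul hn hRne (inv_mem u.2) (show d ∈ _ from ⟨hd.1, hS hd⟩)
          rwa [inv_smul_smul] at h1
        have hb := inf_inf_eq_bot hfaith hn hQ hR hQR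
        rw [inf_eq_left.2 hle] at hb
        have := hD hQ
        rw [hb, Subgroup.card_bot] at this
        omega
    · rintro (rfl | ⟨u, rfl⟩)
      · exact inf_le_left
      · exact inf_le_smul hn hQ u.2
  have horb : ∀ {P Q : Sylow 17 X}, Q ≠ P → (orbit (P : Subgroup X) Q).ncard = 17 :=
    fun {P Q} h => orbit_ncard hn h
  have colEight : ∀ D ∈ 𝒟, (Finset.univ.filter fun S : Sylow 17 X => r S D).card = 18 := by
    intro D hD'
    obtain ⟨P, Q, hQ, rfl⟩ := (Finset.mem_filter.1 hD').2
    obtain ⟨R, hR, hQR⟩ : ∃ R : Sylow 17 X, R ≠ P ∧ R ∉ orbit (P : Subgroup X) Q := by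
      obtain ⟨A, B, hA, hB, hAB⟩ := exists_two hn P
      by_cases hm : B ∈ orbit (P : Subgroup X) Q
      · refine ⟨A, hA, fun hm2 => hAB ?_⟩
        rw [(orbit_eq_iff.2 hm2).trans rfl]
        exact hm
      · exact ⟨B, hB, hm⟩
    have hPnot : P ∉ orbit (P : Subgroup X) Q := by
      rintro ⟨x, hx⟩
      apply hQ
      rw [← inv_smul_smul (x : X) Q, show (x : X) • Q = P from hx]
      exact Sylow.smul_eq_iff_mem_normalizer.2 (inv_mem (le_normalizer x.2))
    rw [← Set.ncard_coe_finset, show ((Finset.univ.filter fun S : Sylow 17 X => r S ((P : Subgroup X) ⊓ Q) : Finset _) : Set (Sylow 17 X)) =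
      insert P (orbit (P : Subgroup X) Q) by ext S; simp [r, eight hQ hR hQR S],
      Set.ncard_insert_of_notMem hPnot, horb hQ]
  have rowTwo : ∀ S : Sylow 17 X, (𝒟.filter fun D => r S D).card = 2 := by
    intro P
    obtain ⟨Q, R, hQ, hR, hQR⟩ := exists_two hn P
    have hne : (P : Subgroup X) ⊓ Q ≠ (P : Subgroup X) ⊓ R := by
      intro e
      have hb := inf_inf_eq_bot hfaith hn hQ hR hQR
      rw [← e, inf_idem] at hb
      have := hD hQ
      rw [hb, Subgroup.card_bot] at this
      omega
    rw [show (𝒟.filter fun D => r P D) = {(P : Subgroup X) ⊓ Q, (P : Subgroup X) ⊓ R} from ?_,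
      Finset.card_pair hne]
    ext D
    simp only [𝒟, r, Finset.mem_filter, Finset.mem_univ, true_and, Finset.mem_insert,
      Finset.mem_singleton]
    constructor
    · rintro ⟨⟨A, B, hBA, rfl⟩, hle⟩
      obtain ⟨T, hT, hTle⟩ : ∃ T : Sylow 17 X, T ≠ P ∧ (A : Subgroup X) ⊓ B ≤ T := by
        by_cases hA : A = P
        · exact ⟨B, hA ▸ hBA, inf_le_right⟩
        · exact ⟨A, hA, inf_le_left⟩
      have e : (A : Subgroup X) ⊓ B = (P : Subgroup X) ⊓ T :=
        Subgroup.eq_of_le_of_card_ge (le_inf hle hTle) (by rw [hD hT, hD hBA])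
      rw [e]
      rcases orbit_cover hn hQ hR hQR T with h | ⟨u, rfl⟩ | ⟨u, rfl⟩
      · exact absurd h hT
      · exact Or.inl (Subgroup.eq_of_le_of_card_ge (le_inf inf_le_left (inf_le_smul hn hQ u.2))
          (le_of_eq ((hD hT).trans (hD hQ).symm))).symm
      · exact Or.inr (Subgroup.eq_of_le_of_card_ge (le_inf inf_le_left (inf_le_smul hn hR u.2))
          (le_of_eq ((hD hT).trans (hD hR).symm))).symm
    · rintro (rfl | rfl)
      · exact ⟨⟨P, Q, hQ, rfl⟩, inf_le_left⟩
      · exact ⟨⟨P, R, hR, rfl⟩, inf_le_left⟩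
  have hcount := Finset.card_mul_eq_card_mul r (s := (Finset.univ : Finset (Sylow 17 X))) (t := 𝒟)
    (m := 2) (n := 18) (fun S _ => rowTwo S) (fun D hD' => colEight D hD')
  rw [Finset.card_univ, ← Nat.card_eq_fintype_card, hn] at hcount
  omega

omit [Finite X] in
theorem eq_one_of_fix {x : X} (h : ∀ S : Sylow 17 X, x • S = S) : x = 1 := hfaith x h

theorem card_centralizer_le (hn : Nat.card (Sylow 17 X) = 35) (P : Sylow 17 X) (h7 : Nat.card P = 17) :
    Nat.card (Subgroup.centralizer ((P : Subgroup X) : Set X)) ≤ 34 := by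
  classical
  haveI := Fintype.ofFinite (Sylow 17 X)
  obtain ⟨Q₀, R₀, hQ₀, hR₀, hQR₀⟩ := exists_two hn P
  set C := Subgroup.centralizer ((P : Subgroup X) : Set X)
  have hPcomm : (P : Subgroup X) ≤ C := by
    haveI : IsCyclic P := isCyclic_of_prime_card h7
    exact Subgroup.le_centralizer (P : Subgroup X)
  have hCP : ∀ c ∈ C, c • P = P := fun c hc =>
    Sylow.smul_eq_iff_mem_normalizer.2 (Subgroup.centralizer_le_normalizer _ hc)
  have hcomm : ∀ c ∈ C, ∀ u ∈ (P : Subgroup X), ∀ S : Sylow 17 X, c • u • S = u • c • S := by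
    intro c hc u hu S
    rw [← mul_smul, ← mul_smul, Subgroup.mem_centralizer_iff.1 hc u hu]
  -- `c ∈ C` fixing some `Q ≠ P` is trivial
  have hfree : ∀ c ∈ C, ∀ Q : Sylow 17 X, Q ≠ P → c • Q = Q → c = 1 := by
    intro c hc Q hQ hcQ
    obtain ⟨R, hR, hQR⟩ : ∃ R : Sylow 17 X, R ≠ P ∧ R ∉ orbit (P : Subgroup X) Q := by
      by_cases hm : R₀ ∈ orbit (P : Subgroup X) Q
      · refine ⟨Q₀, hQ₀, fun hm2 => hQR₀ ?_⟩
        rw [orbit_eq_iff.2 hm2]; exact hm
      · exact ⟨R₀, hR₀, hm⟩
    -- `c` fixes the orbit of `Q` pointwise, so maps `R` into its own orbit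
    have hfixQ : ∀ S ∈ orbit (P : Subgroup X) Q, c • S = S := by
      rintro _ ⟨u, rfl⟩
      show c • (u : X) • Q = (u : X) • Q
      rw [hcomm c hc u u.2, hcQ]
    obtain ⟨u, hu⟩ : c • R ∈ orbit (P : Subgroup X) R := by
      rcases orbit_cover hn hQ hR hQR (c • R) with h | h | h
      · exact absurd (smul_left_cancel c (h.trans (hCP c hc).symm)) hR
      · exact absurd ((smul_left_cancel c ((hfixQ _ h).trans rfl) : c • R = R) ▸ h) hQR
      · exact h
    have hu' : (u : X) • R = c • R := hu
    have hpow : ∀ i : ℕ, c ^ i • R = (u : X) ^ i • R := by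
      intro i
      induction i with
      | zero => simp
      | succ i ih =>
        rw [pow_succ, mul_smul, ← hu', hcomm _ (pow_mem hc i) u u.2, ih, ← mul_smul, ← pow_succ']
    have hu7 : (u : X) ^ 17 = 1 := by
      have h := congrArg Subtype.val (pow_card_eq_one' (x := u))
      rwa [Subgroup.coe_pow, h7, Subgroup.coe_one] at h
    have hc17 : c ^ 17 = 1 := by
      refine hfaith _ fun S => ?_
      rcases orbit_cover hn hQ hR hQR S with rfl | h | ⟨v, rfl⟩
      · exact hCP _ (pow_mem hc 17)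
      · have : ∀ i : ℕ, c ^ i • S = S := by
          intro i
          induction i with
          | zero => simp
          | succ i ih => rw [pow_succ, mul_smul, hfixQ S h, ih]
        exact this 17
      · show c ^ 17 • (v : X) • R = (v : X) • R
        rw [hcomm _ (pow_mem hc 17) v v.2, hpow, hu7, one_smul]
    have hcP : c ∈ (P : Subgroup X) := by
      have hsup : IsPGroup 17 ((Subgroup.zpowers c) ⊔ (P : Subgroup X) : Subgroup X) := by
        refine IsPGroup.to_sup_of_normal_right' ?_ P.2
          (Subgroup.zpowers_le.2 (Subgroup.centralizer_le_normalizer _ hc))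
        exact IsPGroup.of_card_dvd_pow (n := 1)
          (by rw [Nat.card_zpowers, pow_one]; exact orderOf_dvd_of_pow_eq_one hc17)
      exact P.3 hsup le_sup_right ▸ Subgroup.mem_sup_left (Subgroup.mem_zpowers c)
    have hcQ' : c ∈ (P : Subgroup X) ⊓ Subgroup.normalizer (Q : Set X) :=
      ⟨hcP, Sylow.smul_eq_iff_mem_normalizer.1 hcQ⟩
    rw [P.2.inf_normalizer_sylow Q] at hcQ'
    have h1 := Subgroup.relIndex_mul_relIndex ⊥ ((P : Subgroup X) ⊓ Q) P bot_le inf_le_left
    rw [Subgroup.relIndex_bot_left, Subgroup.relIndex_bot_left, Subgroup.inf_relIndex_left,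
      relIndex_eq_seventeen hn hQ, h7] at h1
    have hb : (P : Subgroup X) ⊓ Q = ⊥ := Subgroup.eq_bot_of_card_eq _ (by omega)
    rw [hb, Subgroup.mem_bot] at hcQ'
    exact hcQ'
  -- the centralizer has order 17 or 34
  have hC7 : 17 ∣ Nat.card C := h7 ▸ Subgroup.card_dvd_of_le hPcomm
  have hC14 : Nat.card C ≤ 34 := by
    have hinj : Function.Injective fun c : C =>
        (⟨(c : X) • Q₀, fun e => hQ₀ (smul_left_cancel (c : X) (e.trans (hCP c c.2).symm))⟩ :
          {S : Sylow 17 X // S ≠ P}) := by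
      intro a b hab
      have h1 : (a : X) • Q₀ = (b : X) • Q₀ := congrArg Subtype.val hab
      exact Subtype.ext (inv_mul_eq_one.1 (hfree _ (mul_mem (inv_mem a.2) b.2) Q₀ hQ₀
        (by rw [mul_smul, ← h1, inv_smul_smul])))
    refine le_trans (Nat.card_le_card_of_injective _ hinj) ?_
    rw [Nat.card_eq_fintype_card, Fintype.card_subtype_compl, Fintype.card_subtype_eq,
      ← Nat.card_eq_fintype_card, hn]
  exact hC14

end

/-- An element of order prime to 6 normalizing an abelian 2-group with at most four elements of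
order dividing 2 centralizes it. -/
theorem commute_of_normalizes {X : Type*} [Group X] [Finite X] {S : Subgroup X}
    (hS : IsPGroup 2 S) (hab : ∀ a ∈ S, ∀ b ∈ S, a * b = b * a)
    (hom : {s : X | s ∈ S ∧ s * s = 1}.ncard ≤ 4) {g : X}
    (hg : g ∈ Subgroup.normalizer (S : Set X)) (hg6 : (orderOf g).Coprime 6) :
    ∀ s ∈ S, g * s = s * g := by
  classical
  have hmem : ∀ s ∈ S, g * s * g⁻¹ ∈ S := fun s hs => (Subgroup.mem_normalizer_iff.1 hg s).1 hs
  have hinv : ∀ w ∈ S, w * w = 1 → g * w = w * g := by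
    intro w hw hw2
    by_contra hne
    set Ω : Set X := {s : X | s ∈ S ∧ s * s = 1 ∧ s ≠ 1}
    have hΩ : Ω.ncard ≤ 3 := by
      have h1 : Ω ⊆ {s : X | s ∈ S ∧ s * s = 1} \ {1} := fun x hx => ⟨⟨hx.1, hx.2.1⟩, hx.2.2⟩
      refine le_trans (Set.ncard_le_ncard h1 (Set.toFinite _)) ?_
      rw [Set.ncard_sdiff_singleton_of_mem (show (1 : X) ∈ {s : X | s ∈ S ∧ s * s = 1} from
        ⟨S.one_mem, one_mul 1⟩)]
      omega
    have hconj : ∀ x ∈ Ω, g * x * g⁻¹ ∈ Ω := by
      rintro x ⟨hx, hx2, hx1⟩
      refine ⟨hmem x hx, ?_, fun e => hx1 (conj_eq_one_iff.1 e)⟩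
      rw [show g * x * g⁻¹ * (g * x * g⁻¹) = g * (x * x) * g⁻¹ by group, hx2]
      group
    let σ : Equiv.Perm Ω := Equiv.ofBijective (fun x => ⟨g * x.1 * g⁻¹, hconj x.1 x.2⟩)
      (Finite.injective_iff_bijective.1 fun a b hab' =>
        Subtype.ext (mul_left_cancel (mul_right_cancel (congrArg Subtype.val hab'))))
    have hpow : ∀ (n : ℕ) (x : Ω), ((σ ^ n) x : X) = g ^ n * x * (g ^ n)⁻¹ := by
      intro n
      induction n with
      | zero => intro x; simp
      | succ n ih =>
        intro x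
        rw [pow_succ', Equiv.Perm.mul_apply]
        show g * ((σ ^ n) x : X) * g⁻¹ = _
        rw [ih, pow_succ']
        group
    have h1 : orderOf σ ∣ orderOf g := orderOf_dvd_of_pow_eq_one (Equiv.ext fun x => Subtype.ext (by
      rw [hpow, pow_orderOf_eq_one]; simp))
    have h2 : orderOf σ ∣ 6 := by
      have h := orderOf_dvd_natCard σ
      rw [Nat.card_perm] at h
      refine h.trans ?_
      rw [Nat.card_coe_set_eq]
      exact Nat.factorial_dvd_factorial hΩ
    have hw1 : w ≠ 1 := fun e => hne (by rw [e, mul_one, one_mul])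
    have h := congrArg (fun τ : Equiv.Perm Ω => (τ ⟨w, hw, hw2, hw1⟩ : X))
      (orderOf_eq_one_iff.1 (Nat.eq_one_of_dvd_coprimes hg6 h1 h2))
    exact hne (mul_inv_eq_iff_eq_mul.1 (show g * w * g⁻¹ = w from h))
  intro s hs
  induction hn : orderOf s using Nat.strong_induction_on generalizing s with
  | _ n ih =>
    subst hn
    obtain ⟨k, hk⟩ := IsPGroup.iff_orderOf.1 hS ⟨s, hs⟩
    rw [← Subgroup.orderOf_coe] at hk
    change orderOf s = 2 ^ k at hk
    rcases k with _ | k
    · rw [orderOf_eq_one_iff.1 hk, mul_one, one_mul]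
    · have hlt : orderOf (s ^ 2) < orderOf s := by
        rw [orderOf_pow' s two_ne_zero, hk, Nat.gcd_eq_right (dvd_pow_self 2 (by omega))]
        exact Nat.div_lt_self (by positivity) one_lt_two
      have h2 := ih _ hlt (s ^ 2) (S.pow_mem hs 2) rfl
      set w := s⁻¹ * (g * s * g⁻¹) with hw
      have hwS : w ∈ S := S.mul_mem (S.inv_mem hs) (hmem s hs)
      have hw2 : w * w = 1 := by
        have hc : s⁻¹ * (g * s * g⁻¹) = (g * s * g⁻¹) * s⁻¹ :=
          hab _ (S.inv_mem hs) _ (hmem s hs)
        calc w * w = s⁻¹ * (g * s * g⁻¹) * ((g * s * g⁻¹) * s⁻¹) := by rw [hw]; nth_rw 2 [hc]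
          _ = s⁻¹ * (g * s ^ 2 * g⁻¹) * s⁻¹ := by rw [sq]; group
          _ = s⁻¹ * s ^ 2 * s⁻¹ := by rw [h2]; group
          _ = 1 := by rw [sq]; group
      have hgw := hinv w hwS hw2
      have hgs : g * s * g⁻¹ = s * w := by rw [hw]; group
      have hit : ∀ n : ℕ, g ^ n * s * (g ^ n)⁻¹ = s * w ^ n := by
        intro n
        induction n with
        | zero => simp
        | succ n ihn =>
          calc g ^ (n + 1) * s * (g ^ (n + 1))⁻¹ = g * (g ^ n * s * (g ^ n)⁻¹) * g⁻¹ := by
                rw [pow_succ']; group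
            _ = (g * s * g⁻¹) * (g * w ^ n * g⁻¹) := by rw [ihn]; group
            _ = s * w * w ^ n := by
                rw [hgs, ((show Commute g w from hgw).pow_right n).eq, mul_inv_cancel_right]
            _ = s * w ^ (n + 1) := by rw [mul_assoc, ← pow_succ']
      have h3 := hit (orderOf g)
      rw [pow_orderOf_eq_one, one_mul, inv_one, mul_one, left_eq_mul] at h3
      have hw1 : w = 1 := orderOf_eq_one_iff.1 (Nat.eq_one_of_dvd_coprimes hg6
        (orderOf_dvd_of_pow_eq_one h3) ((orderOf_dvd_of_pow_eq_one (by rw [sq]; exact hw2)).trans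
          (by norm_num : 2 ∣ 6)))
      rw [hw1, mul_one] at hgs
      exact mul_inv_eq_iff_eq_mul.1 hgs

section
variable {X : Type*} [Group X] [Finite X]
variable (hfaith : ∀ x : X, (∀ P : Sylow 17 X, x • P = P) → x = 1)
include hfaith

theorem not_card_17 (hn : Nat.card (Sylow 17 X) = 35) (P : Sylow 17 X) (h17 : Nat.card P = 17) :
    False := by
  classical
  haveI : Fact (Nat.Prime 2) := ⟨Nat.prime_two⟩
  haveI hcycP : IsCyclic P := isCyclic_of_prime_card h17
  set C := Subgroup.centralizer ((P : Subgroup X) : Set X) with hCdef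
  set N := Subgroup.normalizer ((P : Subgroup X) : Set X) with hNdef
  have hC34 := card_centralizer_le hfaith hn P h17
  rw [← hCdef] at hC34
  have hPC : (P : Subgroup X) ≤ C := Subgroup.le_centralizer (P : Subgroup X)
  obtain ⟨c, hc⟩ : 17 ∣ Nat.card C := h17 ▸ Subgroup.card_dvd_of_le hPC
  have hc12 : c = 1 ∨ c = 2 := by
    have := Nat.card_pos (α := C)
    omega
  have he : C.relIndex N ∣ 2 ^ 4 := by
    have key := card_dvd_of_injective _ (QuotientGroup.kerLift_injective (P : Subgroup X).normalizerMonoidHom)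
    rwa [Subgroup.normalizerMonoidHom_ker, ← Subgroup.index, ← Subgroup.relIndex, hcycP.card_mulAut, h17,
      Nat.totient_prime (by norm_num)] at key
  have hN : Nat.card N = 17 * c * C.relIndex N := by
    have h1 := Subgroup.relIndex_mul_relIndex ⊥ C N bot_le (Subgroup.centralizer_le_normalizer _)
    rw [Subgroup.relIndex_bot_left, Subgroup.relIndex_bot_left, hc] at h1
    exact h1.symm
  have hX : Nat.card X = 595 * (c * C.relIndex N) := by
    have h2 : N.index = 35 := P.card_eq_index_normalizer.symm.trans hn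
    rw [← N.card_mul_index, h2, hN]; ring
  obtain ⟨k, hk⟩ : ∃ k, c * C.relIndex N = 2 ^ k := by
    obtain ⟨j, -, hj⟩ := (Nat.dvd_prime_pow Nat.prime_two).1 he
    rcases hc12 with rfl | rfl
    · exact ⟨j, by rw [hj, one_mul]⟩
    · exact ⟨j + 1, by rw [hj, pow_succ']⟩
  rw [hk] at hX
  -- an abelian Sylow 2-subgroup inside the normalizer
  obtain ⟨S₀⟩ : Nonempty (Sylow 2 N) := inferInstance
  set S := (S₀ : Subgroup N).map N.subtype with hSdef
  have hSN : S ≤ N := Subgroup.map_subtype_le _
  have hS2 : IsPGroup 2 S := S₀.2.map _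
  have hScard : Nat.card S = 2 ^ k := by
    rw [hSdef, Subgroup.card_map_of_injective N.subtype_injective, S₀.card_eq_multiplicity, hN,
      mul_assoc, hk, Nat.factorization_mul (by norm_num) (by positivity), Finsupp.add_apply,
      Nat.factorization_eq_zero_of_not_dvd (by norm_num : ¬ 2 ∣ 17), zero_add,
      Nat.prime_two.factorization_pow, Finsupp.single_eq_same]
  haveI : IsCyclic (MulAut P) :=
    isCyclic_of_injective (((IsCyclic.mulAutMulEquiv P).trans
      (Units.mapEquiv (ZMod.ringEquivCongr h17).toMulEquiv)).toMonoidHom)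
      (MulEquiv.injective _)
  haveI := Fintype.ofFinite X
  let f : S →* MulAut P := (P : Subgroup X).normalizerMonoidHom.comp (Subgroup.inclusion hSN)
  have hker2 : Nat.card f.ker ≤ 2 := by
    have hle : f.ker.map S.subtype ≤ C := by
      rintro _ ⟨s, hs, rfl⟩
      have : Subgroup.inclusion hSN s ∈ (P : Subgroup X).normalizerMonoidHom.ker := hs
      rwa [Subgroup.normalizerMonoidHom_ker, Subgroup.mem_subgroupOf] at this
    have hd := Subgroup.card_dvd_of_le hle
    rw [Subgroup.card_map_of_injective S.subtype_injective, hc] at hd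
    have hd2 : Nat.card f.ker ∣ c := by
      refine (Nat.Coprime.dvd_of_dvd_mul_left ?_ hd)
      obtain ⟨j, hj⟩ := IsPGroup.iff_card.1 (hS2.to_subgroup f.ker)
      rw [hj]
      exact Nat.Coprime.pow_left _ (by norm_num)
    exact le_trans (Nat.le_of_dvd (by omega) hd2) (by omega)
  have hfc : f.ker ≤ Subgroup.center S := by
    intro s hs
    rw [Subgroup.mem_center_iff]
    intro t
    have h1 : t * s * t⁻¹ ∈ f.ker := (inferInstance : f.ker.Normal).conj_mem s hs t
    by_cases hs1 : s = 1
    · rw [hs1, mul_one, one_mul]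
    · have heq : t * s * t⁻¹ = s := by
        by_contra hne
        have h3 : ({1, s, t * s * t⁻¹} : Finset S) ⊆ Finset.univ.filter (fun x : S => x ∈ f.ker) := by
          intro x hx
          simp only [Finset.mem_insert, Finset.mem_singleton] at hx
          rcases hx with rfl | rfl | rfl
          · simp
          · simpa using hs
          · simpa using h1
        have h4 := Finset.card_le_card h3
        rw [← Fintype.card_subtype, ← Nat.card_eq_fintype_card] at h4
        have h5 : ({1, s, t * s * t⁻¹} : Finset S).card = 3 := by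
          rw [Finset.card_insert_of_notMem, Finset.card_pair (Ne.symm hne)]
          simp only [Finset.mem_insert, Finset.mem_singleton, not_or]
          exact ⟨Ne.symm hs1, fun e => hs1 (conj_eq_one_iff.1 e.symm)⟩
        change ({1, s, t * s * t⁻¹} : Finset S).card ≤ Nat.card f.ker at h4
        omega
      exact mul_inv_eq_iff_eq_mul.1 heq
  haveI : IsCyclic f.range := inferInstance
  have hab : ∀ a ∈ S, ∀ b ∈ S, a * b = b * a := by
    intro a ha b hb
    exact congrArg Subtype.val ((f.rangeRestrict.isMulCommutative_of_isCyclic_of_ker_le_center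
      (by rw [MonoidHom.ker_rangeRestrict]; exact hfc)).is_comm.comm ⟨a, ha⟩ ⟨b, hb⟩)
  have hom : {s : X | s ∈ S ∧ s * s = 1}.ncard ≤ 4 := by
    haveI := Fintype.ofFinite (MulAut P)
    set T := Finset.univ.filter fun x : S => x * x = 1 with hTdef
    have h1 : {s : X | s ∈ S ∧ s * s = 1}.ncard = T.card := by
      rw [← Set.ncard_coe_finset, ← Set.ncard_image_of_injective _ (Subtype.val_injective (p := fun x => x ∈ S))]
      congr 1
      ext x
      simp only [hTdef, Finset.coe_filter, Finset.mem_univ, true_and, Set.mem_ofPred_eq, Set.mem_image]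
      constructor
      · rintro ⟨hx, hx2⟩; exact ⟨⟨x, hx⟩, Subtype.ext hx2, rfl⟩
      · rintro ⟨y, hy, rfl⟩; exact ⟨y.2, congrArg Subtype.val hy⟩
    rw [h1]
    refine le_trans (Finset.card_le_mul_card_image T (f := f) 2 fun b hb => ?_) ?_
    · obtain ⟨x₀, hx₀, rfl⟩ := Finset.mem_image.1 hb
      refine le_trans ?_ hker2
      rw [Nat.card_eq_fintype_card, ← Finset.card_univ]
      refine Finset.card_le_card_of_injOn (fun x => (⟨if f x = f x₀ then x₀⁻¹ * x else 1, ?_⟩ : f.ker))
        (fun _ _ => Finset.mem_coe.2 (Finset.mem_univ _)) ?_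
      · split
        · rename_i h; rw [MonoidHom.mem_ker, map_mul, map_inv, h, inv_mul_cancel]
        · exact one_mem _
      · intro x hx y hy h
        rw [Finset.mem_coe, Finset.mem_filter] at hx hy
        have := congrArg Subtype.val h
        simp only [hx.2, hy.2, if_true, mul_right_inj] at this
        exact this
    · have h2 : (T.image f).card ≤ 2 := by
        have hroots := IsCyclic.card_pow_eq_one_le (α := MulAut P) (n := 2) (by norm_num)
        refine le_trans (Finset.card_le_card fun y hy => ?_) hroots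
        obtain ⟨x, hx, rfl⟩ := Finset.mem_image.1 hy
        refine Finset.mem_filter.2 ⟨Finset.mem_univ _, ?_⟩
        rw [sq, ← map_mul, (Finset.mem_filter.1 hx).2, map_one]
      omega
  have hSylow : ¬ 2 ∣ S.index := by
    intro h
    have h1 := S.card_mul_index
    rw [hScard, hX, mul_comm 595] at h1
    rw [Nat.eq_of_mul_eq_mul_left (by positivity) h1] at h
    norm_num at h
  set S' := hS2.toSylow hSylow
  obtain ⟨P', K, hK, hKc⟩ := CfsgLib.TransferBasic.hasNormalPComplement_of_abelian (P := S')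
    ⟨⟨fun a b => Subtype.ext (hab _ a.2 _ b.2)⟩⟩ (fun g hg hgc => by
      refine Subgroup.mem_centralizer_iff.2 fun s hs => (commute_of_normalizes hS2 hab hom hg ?_ s hs).symm
      rw [show 6 = 2 * 3 by norm_num]
      refine Nat.Coprime.mul_right hgc ((Nat.prime_three.coprime_iff_not_dvd.2 fun h3 => ?_).symm)
      have h := h3.trans (orderOf_dvd_natCard g)
      rw [hX] at h
      rcases Nat.prime_three.dvd_mul.1 h with h | h
      · norm_num at h
      · exact absurd (Nat.prime_three.dvd_of_dvd_pow h) (by norm_num))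
  haveI := hK
  have hKcard : Nat.card K = 595 := by
    have h1 : Nat.card K = (P' : Subgroup X).index := hKc.index_eq_card.symm
    have h2 : Nat.card P' = 2 ^ k := by
      rw [Nat.card_congr (P'.equiv S').toEquiv]
      exact hScard
    have h3 := (P' : Subgroup X).card_mul_index
    rw [h2, hX, mul_comm 595] at h3
    rw [h1]
    exact Nat.eq_of_mul_eq_mul_left (by positivity) h3
  have hKi : ¬ 17 ∣ K.index := by
    intro h
    have h3 := K.card_mul_index
    rw [hKcard, hX] at h3
    rw [Nat.eq_of_mul_eq_mul_left (by norm_num) h3] at h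
    exact absurd ((by norm_num : Nat.Prime 17).dvd_of_dvd_pow h) (by norm_num)
  have hn17 : Nat.card (Sylow 17 K) = 35 :=
    (CfsgLib.SylowNumber.card_sylow_normal (p := 17) K hKi).trans hn
  haveI : Fact (Nat.Prime 5) := ⟨by norm_num⟩
  obtain ⟨M, hM, hMi, hMc⟩ := CfsgLib.SylowNumber.exists_normal_index_prime (p := 5) (G := K) (e := 119)
    (by rw [hKcard]) (by norm_num) (by rw [hKcard]; norm_num)
  haveI := hM
  have h7 := CfsgLib.SylowNumber.card_sylow_normal (p := 17) M (by rw [hMi]; norm_num)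
  have hd := CfsgLib.SylowNumber.card_sylow_dvd_of_card (G := M) (p := 17) 7 1 (by norm_num)
    (by rw [hMc]; norm_num)
  rw [h7, hn17] at hd
  norm_num at hd

end

/-- No finite group has exactly 35 Sylow 17-subgroups. -/
theorem card_sylow_ne_thirtyfive (G : Type*) [Group G] [Finite G] :
    Nat.card (Sylow 17 G) ≠ 35 := by
  intro hn
  obtain ⟨hcard, hf⟩ := CfsgLib.SylowNumber.exists_faithful 17 G
  rw [hn] at hcard
  obtain ⟨P⟩ : Nonempty (Sylow 17 (G ⧸ CfsgLib.SylowNumber.sylowKernel 17 G)) := inferInstance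
  rcases card_sylow_subgroup hf hcard P with h | h
  · exact not_card_17 hf hcard P h
  · exact not_card_289 hf hcard P h

end CfsgLib.SylowNumber35
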