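import Mathlib.GroupTheory.Sylow
import Cfsg.Agent.Kazarin.Main

/-!
Hall's product formula for Sylow numbers over a normal subgroup.
-/

set_option autoImplicit false
set_option linter.style.haveILetI false
set_option linter.unusedSectionVars false

namespace CfsgLib.SylowProduct

open Subgroup

universe u

variable {G : Type u} [Group G] [Finite G] {p : ℕ} [Fact p.Prime]

theorem card_sylow_eq_index (P : Sylow p G) :
    Nat.card (Sylow p G) = (normalizer ((P : Subgroup G) : Set G)).index :=
  P.card_eq_index_normalizer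

theorem card_sylow_subtype {M : Subgroup G} (P : Sylow p G) (hPM : (P : Subgroup G) ≤ M) :
    Nat.card (Sylow p M) = (normalizer ((P : Subgroup G) : Set G)).relIndex M := by
  rw [card_sylow_eq_index (P.subtype hPM), Subgroup.relIndex]
  congr 1
  ext x
  rw [mem_normalizer_iff, mem_subgroupOf, mem_normalizer_iff]
  constructor
  · intro h y
    constructor
    · intro hy
      have := (h ⟨y, hPM hy⟩).1 (by simpa [mem_subgroupOf] using hy)
      simpa [mem_subgroupOf] using this
    · intro hy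
      have hyM : y ∈ M := by
        have h1 := M.mul_mem (M.mul_mem (M.inv_mem x.2) (hPM hy)) x.2
        simpa [mul_assoc] using h1
      have := (h ⟨y, hyM⟩).2 (by simpa [mem_subgroupOf] using hy)
      simpa [mem_subgroupOf] using this
  · intro h y
    simpa [mem_subgroupOf] using h (y : G)

theorem card_sylow_of_normal_pgroup (Q : Subgroup G) [Q.Normal] (hQ : IsPGroup p Q) :
    Nat.card (Sylow p (G ⧸ Q)) = Nat.card (Sylow p G) := by
  have hs := QuotientGroup.mk'_surjective Q
  refine (Nat.card_congr (Equiv.ofBijective (fun R : Sylow p G => R.mapSurjective hs)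
    ⟨fun R S h => ?_, Sylow.mapSurjective_surjective hs p⟩)).symm
  have h1 := congrArg (fun T : Sylow p (G ⧸ Q) => (T : Subgroup (G ⧸ Q))) h
  simp only [Sylow.coe_mapSurjective] at h1
  have h2 := congrArg (Subgroup.comap (QuotientGroup.mk' Q)) h1
  rw [comap_map_eq_self (by rw [QuotientGroup.ker_mk']; exact hQ.le_sylow_of_normal R),
    comap_map_eq_self (by rw [QuotientGroup.ker_mk']; exact hQ.le_sylow_of_normal S)] at h2
  exact Sylow.ext h2

variable (K : Subgroup G) [K.Normal]

theorem card_sylow_quotient (P : Sylow p G) :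
    Nat.card (Sylow p (G ⧸ K)) = (normalizer ((P : Subgroup G) : Set G) ⊔ K).index := by
  have hs := QuotientGroup.mk'_surjective K
  set A := normalizer ((P : Subgroup G) : Set G)
  have hker : (QuotientGroup.mk' K).ker ≤ A ⊔ K := by
    rw [QuotientGroup.ker_mk']; exact le_sup_right
  rw [card_sylow_eq_index (P.mapSurjective hs), ← index_map_eq (A ⊔ K) hs hker]
  congr 1
  rw [Sylow.coe_mapSurjective]
  ext z
  obtain ⟨g, rfl⟩ := hs z
  constructor
  · intro hg
    refine ⟨g, ?_, rfl⟩
    set M := (P : Subgroup G) ⊔ K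
    have hgP : ((g • P : Sylow p G) : Subgroup G) ≤ M := by
      intro y hy
      rw [Sylow.coe_subgroup_smul] at hy
      obtain ⟨x, hx, rfl⟩ := hy
      have h1 := (mem_normalizer_iff.1 hg (QuotientGroup.mk' K x)).1 (mem_map_of_mem _ hx)
      obtain ⟨x', hx', he⟩ := h1
      rw [← map_inv, ← map_mul, ← map_mul] at he
      obtain ⟨k, hk, hk'⟩ := (QuotientGroup.mk'_eq_mk' K).1 he
      show g * x * g⁻¹ ∈ M
      rw [← hk']
      exact mul_mem (mem_sup_left hx') (mem_sup_right hk)
    obtain ⟨⟨m, hm⟩, hmeq⟩ :=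
      MulAction.exists_smul_eq M (P.subtype (le_sup_left : (P : Subgroup G) ≤ M)) ((g • P).subtype hgP)
    have hmP : m • P = g • P := by
      refine Sylow.ext (Subgroup.ext fun y => ?_)
      have hmle : ((m • P : Sylow p G) : Subgroup G) ≤ M := by
        intro y hy
        rw [Sylow.coe_subgroup_smul] at hy
        obtain ⟨x, hx, rfl⟩ := hy
        exact mul_mem (mul_mem hm (mem_sup_left hx)) (inv_mem hm)
      constructor
      · intro hy
        have h1 : (⟨y, hmle hy⟩ : M) ∈ (((⟨m, hm⟩ : M) • P.subtype le_sup_left : Sylow p M) : Subgroup M) := by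
          rw [Sylow.coe_subgroup_smul] at hy ⊢
          obtain ⟨x, hx, rfl⟩ := hy
          exact ⟨⟨x, mem_sup_left hx⟩, hx, rfl⟩
        rw [hmeq] at h1
        simpa [mem_subgroupOf] using h1
      · intro hy
        have h1 : (⟨y, hgP hy⟩ : M) ∈ (((g • P).subtype hgP : Sylow p M) : Subgroup M) := by
          simpa [mem_subgroupOf] using hy
        rw [← hmeq, Sylow.coe_subgroup_smul] at h1
        obtain ⟨x, hx, he⟩ := h1
        rw [Sylow.coe_subgroup_smul]
        exact ⟨(x : G), hx, congrArg Subtype.val he⟩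
    have h2 : m⁻¹ * g ∈ A := Sylow.smul_eq_iff_mem_normalizer.1 (by
      rw [mul_smul, ← hmP, inv_smul_smul])
    have hm' : m ∈ A ⊔ K := (sup_le_sup_right le_normalizer K) hm
    have : g = m * (m⁻¹ * g) := by group
    rw [this]
    exact mul_mem hm' (mem_sup_left h2)
  · rintro ⟨a, ha, he⟩
    rw [← he]
    obtain ⟨b, hb, k, hk, rfl⟩ := mem_sup_of_normal_right.1 ha
    rw [map_mul, show QuotientGroup.mk' K k = 1 from (QuotientGroup.eq_one_iff k).2 hk, mul_one]
    exact le_normalizer_map _ ⟨b, hb, rfl⟩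

theorem card_sylow_normalSubgroup (P : Sylow p G) :
    Nat.card (Sylow p K) = (normalizer (((P : Subgroup G) ⊓ K : Subgroup G) : Set G)).relIndex K := by
  have hp : IsPGroup p (((P : Subgroup G) ⊓ K).subgroupOf K) :=
    (P.2.to_le inf_le_left).of_equiv (subgroupOfEquivOfLe inf_le_right).symm
  have hidx : ¬ p ∣ (((P : Subgroup G) ⊓ K).subgroupOf K).index := by
    rw [inf_subgroupOf_right]
    exact fun h => P.not_dvd_index (h.trans (CfsgLib.Kazarin.relIndex_dvd (P : Subgroup G) K))
  rw [card_sylow_eq_index (hp.toSylow hidx), Subgroup.relIndex]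
  congr 1
  show normalizer ((((P : Subgroup G) ⊓ K).subgroupOf K : Subgroup K) : Set K) = _
  ext x
  rw [mem_normalizer_iff, mem_subgroupOf, mem_normalizer_iff]
  constructor
  · intro h y
    by_cases hyK : y ∈ K
    · simpa [mem_subgroupOf, hyK, K.mul_mem (K.mul_mem x.2 hyK) (K.inv_mem x.2)] using h ⟨y, hyK⟩
    · refine ⟨fun hy => absurd hy.2 hyK, fun hy => absurd ?_ hyK⟩
      have h1 := K.mul_mem (K.mul_mem (K.inv_mem x.2) hy.2) x.2
      simpa [mul_assoc] using h1
  · intro h y
    simpa [mem_subgroupOf, K.mul_mem (K.mul_mem x.2 y.2) (K.inv_mem x.2)] using h (y : G)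

/-- Dedekind: the part of `P ⊔ K` in an overgroup `L` of `P`. -/
theorem card_inf_sup (P : Sylow p G) (L : Subgroup G) (hL : (P : Subgroup G) ≤ L) :
    Nat.card ↥(L ⊓ ((P : Subgroup G) ⊔ K)) * Nat.card ↥((P : Subgroup G) ⊓ K) =
      Nat.card P * Nat.card ↥(L ⊓ K) := by
  have hnorm : (P : Subgroup G) ≤ normalizer ((L ⊓ K : Subgroup G) : Set G) := by
    intro u hu
    rw [mem_normalizer_iff]
    intro y
    constructor
    · exact fun hy => ⟨L.mul_mem (L.mul_mem (hL hu) hy.1) (L.inv_mem (hL hu)),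
        (inferInstance : K.Normal).conj_mem y hy.2 u⟩
    · intro hy
      refine ⟨?_, ?_⟩
      · have := L.mul_mem (L.mul_mem (L.inv_mem (hL hu)) hy.1) (hL hu)
        simpa [mul_assoc] using this
      · have := (inferInstance : K.Normal).conj_mem _ hy.2 u⁻¹
        simpa [mul_assoc] using this
  have he : L ⊓ ((P : Subgroup G) ⊔ K) = (P : Subgroup G) ⊔ (L ⊓ K) := by
    refine le_antisymm (fun x hx => ?_)
      (sup_le (le_inf hL le_sup_left) (inf_le_inf_left L le_sup_right))
    obtain ⟨u, hu, k, hk, rfl⟩ := mem_sup_of_normal_right.1 hx.2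
    refine mul_mem (mem_sup_left hu) (mem_sup_right ⟨?_, hk⟩)
    have := L.mul_mem (L.inv_mem (hL hu)) hx.1
    simpa using this
  have h := CfsgLib.Solvable.card_sup_mul_card_inf (A := (P : Subgroup G)) (K := L ⊓ K) hnorm
  rw [← he, show (P : Subgroup G) ⊓ (L ⊓ K) = (P : Subgroup G) ⊓ K by
    rw [← inf_assoc, inf_eq_left.2 hL]] at h
  exact h

theorem product_formula (P : Sylow p G) (N : Subgroup G)
    (hN : N = ((P : Subgroup G) ⊔ K) ⊓ normalizer (((P : Subgroup G) ⊓ K : Subgroup G) : Set G))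
    [hn : (((P : Subgroup G) ⊓ K).subgroupOf N).Normal] :
    Nat.card (Sylow p G) = Nat.card (Sylow p (G ⧸ K)) * Nat.card (Sylow p K) *
      Nat.card (Sylow p (N ⧸ ((P : Subgroup G) ⊓ K).subgroupOf N)) := by
  set A := normalizer ((P : Subgroup G) : Set G) with hA
  set D := (P : Subgroup G) ⊓ K with hD
  set M := normalizer ((D : Subgroup G) : Set G) with hM
  have hAM : A ≤ M := by
    intro g hg
    rw [mem_normalizer_iff]
    intro y
    rw [hD, mem_inf, mem_inf, ← mem_normalizer_iff.1 hg y]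
    refine and_congr_right fun _ => ⟨fun hy => (inferInstance : K.Normal).conj_mem y hy g, fun hy => ?_⟩
    have := (inferInstance : K.Normal).conj_mem _ hy g⁻¹
    simpa [mul_assoc] using this
  have hPA : (P : Subgroup G) ≤ A := le_normalizer
  have hPN : (P : Subgroup G) ≤ N := hN ▸ le_inf le_sup_left (hPA.trans hAM)
  have hDN : D ≤ N := inf_le_left.trans hPN
  rw [card_sylow_of_normal_pgroup _ ((P.2.to_le inf_le_left).of_equiv (subgroupOfEquivOfLe hDN).symm),
    card_sylow_subtype P hPN, card_sylow_quotient K P, card_sylow_normalSubgroup K P,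
    card_sylow_eq_index P]
  -- compare cardinalities
  have e1 : Nat.card N * Nat.card D = Nat.card P * Nat.card ↥(M ⊓ K) := by
    rw [hN, inf_comm ((P : Subgroup G) ⊔ K)]
    exact card_inf_sup K P M (hPA.trans hAM)
  have e2 : Nat.card ↥(A ⊓ N) * Nat.card D = Nat.card P * Nat.card ↥(A ⊓ K) := by
    rw [hN, inf_comm ((P : Subgroup G) ⊔ K), ← inf_assoc, inf_eq_left.2 hAM]
    exact card_inf_sup K P A hPA
  have e3 : Nat.card ↥(A ⊓ N) * A.relIndex N = Nat.card N := by
    have h := relIndex_mul_relIndex ⊥ (A ⊓ N) N bot_le inf_le_right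
    rwa [relIndex_bot_left, relIndex_bot_left, inf_relIndex_right] at h
  have e4 : Nat.card ↥(M ⊓ K) * M.relIndex K = Nat.card K := by
    have h := relIndex_mul_relIndex ⊥ (M ⊓ K) K bot_le inf_le_right
    rwa [relIndex_bot_left, relIndex_bot_left, inf_relIndex_right] at h
  have e5 : Nat.card ↥(A ⊔ K) * Nat.card ↥(A ⊓ K) = Nat.card A * Nat.card K :=
    CfsgLib.Solvable.card_sup_mul_card_inf (by rw [normalizer_eq_top]; exact le_top)
  have e6 : Nat.card A * A.index = Nat.card ↥(A ⊔ K) * (A ⊔ K).index :=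
    A.card_mul_index.trans (A ⊔ K).card_mul_index.symm
  -- from `e1`–`e3`: the index in `N`
  have e7 : A.relIndex N * Nat.card ↥(A ⊓ K) = Nat.card ↥(M ⊓ K) := by
    apply Nat.eq_of_mul_eq_mul_left (Nat.card_pos (α := P))
    rw [← e1, ← e3, mul_comm (A.relIndex N), ← mul_assoc, ← e2]
    ring
  apply Nat.eq_of_mul_eq_mul_left (mul_pos (Nat.card_pos (α := A)) (Nat.card_pos (α := K)))
  calc Nat.card A * Nat.card K * A.index = (Nat.card A * A.index) * Nat.card K := by ring
    _ = Nat.card ↥(A ⊔ K) * (A ⊔ K).index * (Nat.card ↥(M ⊓ K) * M.relIndex K) := by rw [e6, e4]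
    _ = Nat.card ↥(A ⊔ K) * (A ⊔ K).index * ((A.relIndex N * Nat.card ↥(A ⊓ K)) * M.relIndex K) := by
        rw [e7]
    _ = (Nat.card ↥(A ⊔ K) * Nat.card ↥(A ⊓ K)) * ((A ⊔ K).index * M.relIndex K * A.relIndex N) := by
        ring
    _ = Nat.card A * Nat.card K * ((A ⊔ K).index * M.relIndex K * A.relIndex N) := by rw [e5]

end CfsgLib.SylowProduct
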