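import Mathlib.GroupTheory.Sylow
import Mathlib.Data.Nat.Factorization.Basic
import Cfsg.Agent.SylowNumber.Product
import Cfsg.Agent.Solvable.CoprimeAct

/-!
Hall's factorization of Sylow numbers.
-/

set_option autoImplicit false
set_option linter.style.haveILetI false

namespace CfsgLib.SylowProduct

open Subgroup

universe u

variable {G : Type u} [Group G] [Finite G] {p : ℕ} [Fact p.Prime]

/-- For a normal `p`-complement every prime part of the Sylow number is congruent to one. -/
theorem ordProj_modEq_one (K : Subgroup G) [K.Normal] (P : Sylow p G) (htop : (P : Subgroup G) ⊔ K = ⊤)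
    (hbot : (P : Subgroup G) ⊓ K = ⊥) (l : ℕ) (hl : l.Prime) :
    l ^ (Nat.card (Sylow p G)).factorization l ≡ 1 [MOD p] := by
  classical
  haveI := Fact.mk hl
  set A := normalizer ((P : Subgroup G) : Set G) with hA
  have hPK : (P : Subgroup G) ≤ normalizer (K : Set G) := by rw [normalizer_eq_top]; exact le_top
  have hpK : ¬ p ∣ Nat.card K := by
    intro hd
    obtain ⟨g, hg⟩ := exists_prime_orderOf_dvd_card' (G := K) p hd
    have hp' : IsPGroup p (zpowers (g : G)) := IsPGroup.of_card_dvd_pow (n := 1)
      (by rw [Nat.card_zpowers, pow_one, Subgroup.orderOf_coe, hg])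
    obtain ⟨R, hR⟩ := hp'.exists_le_sylow
    obtain ⟨c, rfl⟩ := MulAction.exists_smul_eq G P R
    have h1 := hR (mem_zpowers (g : G))
    rw [Sylow.coe_subgroup_smul] at h1
    obtain ⟨x, hx, hxg⟩ := h1
    have hxK : x ∈ K := by
      have hxg' : c * x * c⁻¹ = (g : G) := hxg
      have := (inferInstance : K.Normal).conj_mem _ g.2 c⁻¹
      rw [← hxg'] at this
      simpa [mul_assoc] using this
    have : x = 1 := Subgroup.mem_bot.1 (hbot.le ⟨hx, hxK⟩)
    have hxg2 : c * x * c⁻¹ = (g : G) := hxg
    rw [this, mul_one, mul_inv_cancel] at hxg2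
    rw [← Subgroup.orderOf_coe, ← hxg2, orderOf_one] at hg
    exact (Fact.out : p.Prime).ne_one hg.symm
  have hcop : (Nat.card P).Coprime (Nat.card K) := by
    obtain ⟨k, hk⟩ := IsPGroup.iff_card.1 P.2
    rw [hk]
    exact ((Fact.out : p.Prime).coprime_iff_not_dvd.2 hpK).pow_left k
  have hcount : Nat.card (Sylow p G) = A.relIndex K := by
    have h1 := CfsgLib.Solvable.card_sup_mul_card_inf (A := A) (K := K)
      (by rw [normalizer_eq_top]; exact le_top)
    have h2 : A ⊔ K = ⊤ := top_le_iff.1 (htop.ge.trans (sup_le_sup_right le_normalizer K))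
    rw [h2, card_top, ← A.card_mul_index, mul_assoc] at h1
    have h3 := Nat.eq_of_mul_eq_mul_left Nat.card_pos h1
    have h4 : Nat.card ↥(A ⊓ K) * A.relIndex K = Nat.card K := by
      have h := relIndex_mul_relIndex ⊥ (A ⊓ K) K bot_le inf_le_right
      rwa [relIndex_bot_left, relIndex_bot_left, inf_relIndex_right] at h
    rw [← h4, mul_comm] at h3
    rw [card_sylow_eq_index P]
    exact Nat.eq_of_mul_eq_mul_left Nat.card_pos h3
  set C := A ⊓ K with hC
  have hCc : C ≤ centralizer ((P : Subgroup G) : Set G) := fun c hc =>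
    CfsgLib.CoprimeAct.mem_centralizer_of_normalizes hPK hcop hc.2 hc.1
  obtain ⟨U₀⟩ : Nonempty (Sylow l C) := inferInstance
  set U := (U₀ : Subgroup C).map C.subtype with hU
  have hUC : U ≤ C := map_subtype_le _
  obtain ⟨Q₀, hUQ, hPQ⟩ := CfsgLib.CoprimeAct.exists_invariant_sylow_ge hPK hcop
    (Or.inl (by haveI := P.2.isNilpotent; infer_instance)) l (hUC.trans inf_le_right)
    (U₀.2.map _) (fun u hu => by
      rw [mem_normalizer_iff]
      intro y
      constructor
      · intro hy
        have := mem_centralizer_iff.1 (hCc (hUC hy)) u hu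
        rw [this, mul_inv_cancel_right]
        exact hy
      · intro hy
        have := mem_centralizer_iff.1 (hCc (hUC hy)) u hu
        have he : y = u * y * u⁻¹ :=
          (mul_left_cancel (this.trans (inv_mul_cancel_right (u * y) u))).symm
        rw [he]
        exact hy)
  set Q := (Q₀ : Subgroup K).map K.subtype with hQdef
  have hQU : Q ⊓ C = U := by
    refine le_antisymm (fun x hx => ?_) (le_inf hUQ hUC)
    have hT : IsPGroup l ((Q ⊓ C).subgroupOf C) :=
      ((Q₀.2.map K.subtype).to_le inf_le_left).of_equiv (subgroupOfEquivOfLe inf_le_right).symm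
    have hle : (U₀ : Subgroup C) ≤ (Q ⊓ C).subgroupOf C := fun y hy =>
      ⟨hUQ (mem_map_of_mem _ hy), y.2⟩
    have := U₀.3 hT hle
    exact ⟨⟨x, hx.2⟩, this.le (mem_subgroupOf.2 hx), rfl⟩
  -- `l`-part of the index
  have hQcard : Nat.card Q = l ^ (Nat.card K).factorization l := by
    rw [hQdef, card_map_of_injective K.subtype_injective, Q₀.card_eq_multiplicity]
  have hUcard : Nat.card U = l ^ (Nat.card C).factorization l := by
    rw [hU, card_map_of_injective C.subtype_injective, U₀.card_eq_multiplicity]
  have hfac : (Nat.card K).factorization l =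
      (Nat.card C).factorization l + (A.relIndex K).factorization l := by
    have h := relIndex_mul_relIndex ⊥ C K bot_le inf_le_right
    rw [relIndex_bot_left, relIndex_bot_left, hC, inf_relIndex_right] at h
    rw [← h, Nat.factorization_mul Nat.card_pos.ne'
      (show A.relIndex K ≠ 0 from index_ne_zero_of_finite), Finsupp.add_apply]
  -- fixed points of `P` on `Q`
  let φ : (P : Subgroup G) →* MulAut Q := Q.normalizerMonoidHom.comp (inclusion hPQ)
  letI : MulAction (P : Subgroup G) Q := MulAction.compHom Q φ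
  have hfix : Nat.card (MulAction.fixedPoints (P : Subgroup G) Q) = Nat.card U := by
    refine Nat.card_congr ?_
    refine (Equiv.subtypeEquivRight fun q => ?_).trans
      ((Equiv.subtypeSubtypeEquivSubtype (p := fun g : G => g ∈ Q) (q := fun g : G => g ∈ U)
        fun {g} hg => hUQ hg))
    constructor
    · intro hq
      rw [← hQU]
      refine ⟨q.2, ?_, map_subtype_le _ q.2⟩
      show (q : G) ∈ normalizer ((P : Subgroup G) : Set G)
      rw [mem_normalizer_iff]
      have hcomm : ∀ u ∈ (P : Subgroup G), Commute u (q : G) := fun u hu => by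
        have h1 : u * (q : G) * u⁻¹ = q := congrArg Subtype.val (hq ⟨u, hu⟩)
        exact mul_inv_eq_iff_eq_mul.1 h1
      intro y
      constructor
      · intro hy
        rw [← (hcomm y hy).eq, mul_inv_cancel_right]
        exact hy
      · intro hy
        have h2 := (hcomm _ hy).eq
        have : y = (q : G) * y * (q : G)⁻¹ := by
          have h3 := congrArg (fun z => (q : G)⁻¹ * z) h2
          simp [mul_assoc] at h3
          exact h3.trans (mul_assoc _ _ _).symm
        rw [this]; exact hy
    · intro hq u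
      refine Subtype.ext ?_
      show (u : G) * (q : G) * (u : G)⁻¹ = q
      rw [mem_centralizer_iff.1 (hCc (hUC hq)) u u.2, mul_inv_cancel_right]
  have hmod := P.2.card_modEq_card_fixedPoints Q
  rw [hfix, hQcard, hUcard, hfac, pow_add] at hmod
  rw [hcount]
  by_cases hlp : l = p
  · subst hlp
    rw [Nat.factorization_eq_zero_of_not_dvd fun h => hpK (h.trans (relIndex_dvd_card A K)), pow_zero]
  refine Nat.ModEq.cancel_left_of_coprime ?_ (hmod.trans (by rw [mul_one]))
  refine (Nat.Coprime.pow_right _ ?_)
  rw [Nat.coprime_primes Fact.out hl]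
  exact Ne.symm hlp

/-- The admissible factors. -/
def Good (p : ℕ) (G : Type u) [Group G] (m : ℕ) : Prop :=
  (IsPrimePow m ∧ m % p = 1) ∨ ∃ (S : Type u) (_ : Group S) (_ : Finite S),
    IsSimpleGroup S ∧ m = Nat.card (Sylow p S) ∧ (Group.IsSolvable G → Group.IsSolvable S)

omit [Finite G] [Fact p.Prime] in
theorem Good.mono {H : Type u} [Group H] {m : ℕ} (h : Good p H m)
    (hGH : Group.IsSolvable G → Group.IsSolvable H) : Good p G m :=
  h.imp id fun ⟨S, i1, i2, h1, h2, h3⟩ => ⟨S, i1, i2, h1, h2, fun h' => h3 (hGH h')⟩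

theorem exists_factors_aux (p : ℕ) [Fact p.Prime] (n : ℕ) : ∀ (G : Type u) [Group G] [Finite G],
    Nat.card G = n → ∃ l : List ℕ, l.prod = Nat.card (Sylow p G) ∧ ∀ m ∈ l, Good p G m := by
  classical
  induction n using Nat.strong_induction_on with
  | _ n ih =>
    intro G _ _ hn
    subst hn
    obtain ⟨P⟩ : Nonempty (Sylow p G) := inferInstance
    rcases subsingleton_or_nontrivial G with hG | hG
    · refine ⟨[], ?_, by simp⟩
      haveI : Subsingleton (Sylow p G) := ⟨fun R S => Sylow.ext (Subsingleton.elim _ _)⟩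
      rw [List.prod_nil, Nat.card_of_subsingleton P]
    by_cases hs : IsSimpleGroup G
    · exact ⟨[Nat.card (Sylow p G)], by simp, fun m hm =>
        Or.inr ⟨G, inferInstance, inferInstance, hs, List.mem_singleton.1 hm, id⟩⟩
    obtain ⟨K, hK, hK1, hK2⟩ : ∃ K : Subgroup G, K.Normal ∧ K ≠ ⊥ ∧ K ≠ ⊤ := by
      by_contra hno
      push Not at hno
      exact hs ⟨fun H hH => or_iff_not_imp_left.2 (hno H hH)⟩
    haveI := hK
    set D := (P : Subgroup G) ⊓ K with hD
    set N := ((P : Subgroup G) ⊔ K) ⊓ normalizer ((D : Subgroup G) : Set G) with hN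
    haveI hDn : (D.subgroupOf N).Normal := by
      have hle : D ≤ N := by
        refine le_inf (inf_le_left.trans le_sup_left) ?_
        exact le_normalizer
      exact (normal_subgroupOf_iff_le_normalizer hle).2 inf_le_right
    by_cases hsplit : D = ⊥ ∧ (P : Subgroup G) ⊔ K = ⊤
    · refine ⟨(Nat.card (Sylow p G)).primeFactors.toList.map
          fun l => l ^ (Nat.card (Sylow p G)).factorization l, ?_, ?_⟩
      · rw [Finset.prod_map_toList]
        conv_rhs => rw [← Nat.prod_factorization_pow_eq_self (n := Nat.card (Sylow p G)) Nat.card_pos.ne']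
        rw [Finsupp.prod, Nat.support_factorization]
      · intro m hm
        obtain ⟨l, hl, rfl⟩ := List.mem_map.1 hm
        rw [Finset.mem_toList] at hl
        obtain ⟨hlp, hld, -⟩ := Nat.mem_primeFactors.1 hl
        refine Or.inl ⟨(isPrimePow_nat_iff _).2 ⟨l, _, hlp,
          hlp.factorization_pos_of_dvd Nat.card_pos.ne' hld, rfl⟩, ?_⟩
        have := ordProj_modEq_one K P hsplit.2 hsplit.1 l hlp
        rwa [Nat.ModEq, Nat.mod_eq_of_lt (Fact.out : p.Prime).one_lt] at this
    have h1 : Nat.card (G ⧸ K) < Nat.card G := by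
      rw [K.card_eq_card_quotient_mul_card_subgroup]
      exact lt_mul_of_one_lt_right Nat.card_pos ((Subgroup.one_lt_card_iff_ne_bot _).2 hK1)
    have h2 : Nat.card K < Nat.card G := by
      refine lt_of_le_of_ne (Subgroup.card_le_card_group K) fun e => hK2 (K.eq_top_of_card_eq e)
    have h3 : Nat.card (N ⧸ D.subgroupOf N) < Nat.card G := by
      have hc := (D.subgroupOf N).card_eq_card_quotient_mul_card_subgroup
      have hle := Subgroup.card_le_card_group N
      by_cases hD1 : D = ⊥
      · have hlt : Nat.card N < Nat.card G := by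
          refine lt_of_le_of_ne hle fun e => hsplit ⟨hD1, top_le_iff.1 ?_⟩
          exact (N.eq_top_of_card_eq e).ge.trans inf_le_left
        calc Nat.card (N ⧸ D.subgroupOf N)
            ≤ Nat.card (N ⧸ D.subgroupOf N) * Nat.card (D.subgroupOf N) :=
              Nat.le_mul_of_pos_right _ Nat.card_pos
          _ = Nat.card N := hc.symm
          _ < Nat.card G := hlt
      · have hD2 : D.subgroupOf N ≠ ⊥ := by
          rw [Ne, subgroupOf_eq_bot, disjoint_iff, inf_eq_left.2 ?_]
          · exact hD1
          · exact le_inf (inf_le_left.trans le_sup_left) le_normalizer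
        have h4 := (Subgroup.one_lt_card_iff_ne_bot _).2 hD2
        calc Nat.card (N ⧸ D.subgroupOf N)
            < Nat.card (N ⧸ D.subgroupOf N) * Nat.card (D.subgroupOf N) :=
              lt_mul_of_one_lt_right Nat.card_pos h4
          _ = Nat.card N := hc.symm
          _ ≤ Nat.card G := hle
    obtain ⟨l₁, e₁, g₁⟩ := ih _ h1 (G ⧸ K) rfl
    obtain ⟨l₂, e₂, g₂⟩ := ih _ h2 K rfl
    obtain ⟨l₃, e₃, g₃⟩ := ih _ h3 (N ⧸ D.subgroupOf N) rfl
    refine ⟨l₁ ++ l₂ ++ l₃, ?_, fun m hm => ?_⟩
    · rw [List.prod_append, List.prod_append, e₁, e₂, e₃, ← product_formula K P N hN]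
    · rw [List.mem_append, List.mem_append] at hm
      rcases hm with (hm | hm) | hm
      · refine (g₁ m hm).mono fun h => ?_
        haveI := h
        infer_instance
      · refine (g₂ m hm).mono fun h => ?_
        haveI := h
        infer_instance
      · refine (g₃ m hm).mono fun h => ?_
        haveI := h
        infer_instance

theorem exists_factors (p : ℕ) [Fact p.Prime] (G : Type u) [Group G] [Finite G] :
    ∃ l : List ℕ, l.prod = Nat.card (Sylow p G) ∧ ∀ m ∈ l, Good p G m :=
  exists_factors_aux p _ G rfl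

theorem ordProj_modEq_one_of_solvable (hG : Group.IsSolvable G) (l : ℕ) (hl : l.Prime) :
    l ^ (Nat.card (Sylow p G)).factorization l ≡ 1 [MOD p] := by
  obtain ⟨L, hL, hgood⟩ := exists_factors p G
  rw [← hL]
  clear hL
  induction L with
  | nil => simp [Nat.ModEq]
  | cons m L ih =>
    have ih' := ih fun k hk => hgood k (List.mem_cons_of_mem _ hk)
    have hm : m ≠ 0 ∧ l ^ m.factorization l ≡ 1 [MOD p] := by
      rcases hgood m List.mem_cons_self with ⟨hpp, hmod⟩ | ⟨S, _, _, hS, rfl, hsol⟩
      · refine ⟨fun e => not_isPrimePow_zero (e ▸ hpp), ?_⟩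
        obtain ⟨q, k, hq, -, rfl⟩ := (isPrimePow_nat_iff m).1 hpp
        by_cases hql : q = l
        · subst hql
          rw [hq.factorization_pow, Finsupp.single_eq_same, Nat.ModEq, hmod,
            Nat.mod_eq_of_lt (Fact.out : p.Prime).one_lt]
        · rw [hq.factorization_pow, Finsupp.single_eq_of_ne (Ne.symm hql), pow_zero]
      · refine ⟨Nat.card_pos.ne', ?_⟩
        haveI := hsol hG
        have hc : ∀ a b : S, a * b = b * a := IsSimpleGroup.comm_iff_isSolvable.2 this
        obtain ⟨R⟩ : Nonempty (Sylow p S) := inferInstance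
        haveI : (R : Subgroup S).Normal := ⟨fun x hx g => by
          rw [hc g x, mul_inv_cancel_right]; exact hx⟩
        haveI := Sylow.unique_of_normal R inferInstance
        rw [Nat.card_unique, Nat.factorization_one, Finsupp.zero_apply, pow_zero]
    have hne : L.prod ≠ 0 := List.prod_ne_zero fun h0 => by
      rcases hgood 0 (List.mem_cons_of_mem _ h0) with ⟨hpp, -⟩ | ⟨S, _, _, -, e, -⟩
      · exact not_isPrimePow_zero hpp
      · exact Nat.card_pos.ne e
    rw [List.prod_cons, Nat.factorization_mul hm.1 hne, Finsupp.add_apply, pow_add]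
    simpa using hm.2.mul ih'

end CfsgLib.SylowProduct
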