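import Mathlib.GroupTheory.Perm.Cycle.Type
import Mathlib.Data.Fintype.Perm
import Mathlib.GroupTheory.SpecificGroups.Cyclic
import Mathlib.GroupTheory.IndexNormal
import Mathlib.GroupTheory.GroupAction.Blocks
import Mathlib.Combinatorics.Enumerative.DoubleCounting
import Mathlib.Tactic.NormNum.Prime
import Cfsg.Agent.SylowNumber.Basic

/-!
There is no finite group with exactly 15 Sylow 7-subgroups.
-/

set_option autoImplicit false
set_option linter.style.haveILetI false

namespace CfsgLib.SylowNumber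

open Subgroup MulAction

instance fact_prime_seven : Fact (Nat.Prime 7) := ⟨by norm_num⟩

/-- Orders `105 b`, `b ∈ {1, 2, 3, 6}`, are impossible. -/
theorem no_fifteen_small (G : Type*) [Group G] [Finite G] (b : ℕ) (hb : b ∣ 6)
    (h : Nat.card G = 105 * b) : Nat.card (Sylow 7 G) ≠ 15 := by
  intro hn
  haveI : Fact (Nat.Prime 2) := ⟨by norm_num⟩
  haveI : Fact (Nat.Prime 5) := ⟨by norm_num⟩
  -- reduce to odd order
  have odd : ∀ (H : Type _) [Group H] [Finite H] (c : ℕ), (c = 1 ∨ c = 3) →
      Nat.card H = 105 * c → Nat.card (Sylow 7 H) ≠ 15 := by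
    intro H _ _ c hc hH hn7
    have hH' : Nat.card H = 5 * (21 * c) := by rw [hH]; ring
    obtain ⟨M, hM, hMi, hMc⟩ := exists_normal_index_prime (p := 5) hH'
      (by rcases hc with rfl | rfl <;> norm_num)
      (by rw [hH]; rcases hc with rfl | rfl <;> norm_num)
    haveI := hM
    have h7 := card_sylow_normal (p := 7) M (by rw [hMi]; norm_num)
    have hd := card_sylow_dvd_of_card (G := M) (p := 7) (3 * c) 1
      (by rcases hc with rfl | rfl <;> norm_num) (by rw [hMc]; ring)
    rw [h7, hn7] at hd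
    rcases hc with rfl | rfl <;> norm_num at hd
  have hb' : b = 1 ∨ b = 2 ∨ b = 3 ∨ b = 6 := by
    have := Nat.le_of_dvd (by norm_num) hb
    interval_cases b <;> simp_all
  rcases hb' with rfl | rfl | rfl | rfl
  · exact odd G 1 (Or.inl rfl) h hn
  · obtain ⟨M, hM, hMi, hMc⟩ := exists_normal_index_prime (p := 2) (G := G) (e := 105)
      (by rw [h]) (by norm_num) (by norm_num)
    haveI := hM
    exact odd M 1 (Or.inl rfl) (by rw [hMc]) ((card_sylow_normal (p := 7) M (by rw [hMi]; norm_num)).trans hn)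
  · exact odd G 3 (Or.inr rfl) h hn
  · obtain ⟨M, hM, hMi, hMc⟩ := exists_normal_index_prime (p := 2) (G := G) (e := 315)
      (by rw [h]) (by norm_num) (by norm_num)
    haveI := hM
    exact odd M 3 (Or.inr rfl) (by rw [hMc]) ((card_sylow_normal (p := 7) M (by rw [hMi]; norm_num)).trans hn)

section
variable {X : Type*} [Group X] [Finite X]

/-- With `15` Sylow 7-subgroups, two distinct ones meet in a subgroup of index `7`. -/
theorem relIndex_eq_seven (hn : Nat.card (Sylow 7 X) = 15) {P Q : Sylow 7 X} (h : Q ≠ P) :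
    (Q : Subgroup X).relIndex (P : Subgroup X) = 7 := by
  have hP : (P : Subgroup X) ⊓ Subgroup.normalizer (Q : Set X) = (P : Subgroup X) ⊓ Q :=
    P.2.inf_normalizer_sylow Q
  have hst : stabilizer (P : Subgroup X) Q = (Q : Subgroup X).subgroupOf (P : Subgroup X) := by
    ext x
    rw [mem_stabilizer_iff, Subgroup.smul_def, Sylow.smul_eq_iff_mem_normalizer, mem_subgroupOf]
    constructor
    · intro hx
      have : (x : X) ∈ (P : Subgroup X) ⊓ Subgroup.normalizer (Q : Set X) := ⟨x.2, hx⟩
      rw [hP] at this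
      exact this.2
    · exact fun hx => le_normalizer hx
  have hsize : Nat.card (orbit (P : Subgroup X) Q) = (Q : Subgroup X).relIndex (P : Subgroup X) := by
    rw [Subgroup.relIndex, ← hst, MulAction.index_stabilizer, Nat.card_coe_set_eq]
  obtain ⟨k, hk⟩ := P.2.index ((Q : Subgroup X).subgroupOf (P : Subgroup X))
  change (Q : Subgroup X).relIndex (P : Subgroup X) = 7 ^ k at hk
  have hle : Nat.card (orbit (P : Subgroup X) Q) ≤ 14 := by
    have hPnot : P ∉ orbit (P : Subgroup X) Q := by
      rintro ⟨x, hx⟩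
      apply h
      have hx' : (x : X) • Q = P := hx
      have hself : (x : X)⁻¹ • P = P :=
        Sylow.smul_eq_iff_mem_normalizer.2 (inv_mem (le_normalizer x.2))
      calc Q = (x : X)⁻¹ • ((x : X) • Q) := (inv_smul_smul _ _).symm
        _ = P := by rw [hx', hself]
    rw [Nat.card_coe_set_eq]
    have h2 : orbit (P : Subgroup X) Q ⊆ ({P} : Set (Sylow 7 X))ᶜ := fun R hR e => hPnot (e ▸ hR)
    refine le_trans (Set.ncard_le_ncard h2 (Set.toFinite _)) ?_
    rw [Set.ncard_compl, Set.ncard_singleton, hn]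
  rw [hsize, hk] at hle
  rcases k with _ | _ | k
  · exfalso
    have h3 : (P : Subgroup X) ≤ Q := Subgroup.relIndex_eq_one.1 (by simpa using hk)
    exact h (Sylow.ext (P.3 Q.2 h3))
  · simpa using hk
  · exfalso
    have : 7 ^ 2 ≤ 7 ^ (k + 1 + 1) := Nat.pow_le_pow_right (by norm_num) (by omega)
    omega

theorem orbit_ncard (hn : Nat.card (Sylow 7 X) = 15) {P T : Sylow 7 X} (hT : T ≠ P) :
    (orbit (P : Subgroup X) T).ncard = 7 := by
  refine Eq.trans ?_ (relIndex_eq_seven hn hT)
  rw [← MulAction.index_stabilizer, Subgroup.relIndex]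
  congr 1
  ext x
  rw [mem_stabilizer_iff, Subgroup.smul_def, Sylow.smul_eq_iff_mem_normalizer, mem_subgroupOf]
  exact ⟨fun hx => ((P.2.inf_normalizer_sylow T).le ⟨x.2, hx⟩).2, fun hx => le_normalizer hx⟩

theorem inf_normal_in (hn : Nat.card (Sylow 7 X) = 15) {P Q : Sylow 7 X} (h : Q ≠ P) :
    (P : Subgroup X) ≤ Subgroup.normalizer (((P : Subgroup X) ⊓ Q : Subgroup X) : Set X) := by
  have h1 : ((Q : Subgroup X).subgroupOf (P : Subgroup X)).index = 7 := relIndex_eq_seven hn h
  haveI : ((Q : Subgroup X).subgroupOf (P : Subgroup X)).Normal := by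
    refine Subgroup.normal_of_index_eq_minFac_card ?_
    obtain ⟨j, hj⟩ := IsPGroup.iff_card.1 P.2
    rcases j with _ | j
    · have := h1 ▸ ((Q : Subgroup X).subgroupOf (P : Subgroup X)).index_dvd_card
      rw [hj] at this; norm_num at this
    · rw [h1, hj, Nat.pow_minFac (by omega), (Fact.out : Nat.Prime 7).minFac_eq]
  have h2 := (Subgroup.normal_subgroupOf_iff_le_normalizer (inf_le_left : (P : Subgroup X) ⊓ Q ≤ P)).1
    (by rwa [Subgroup.inf_subgroupOf_left])
  exact h2

/-- The points of the `P`-orbit of `Q` contain `P ∩ Q`. -/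
theorem inf_le_smul (hn : Nat.card (Sylow 7 X) = 15) {P Q : Sylow 7 X} (h : Q ≠ P) {u : X}
    (hu : u ∈ (P : Subgroup X)) : (P : Subgroup X) ⊓ Q ≤ ((u • Q : Sylow 7 X) : Subgroup X) := by
  intro d hd
  rw [Sylow.coe_subgroup_smul, Subgroup.mem_pointwise_smul_iff_inv_smul_mem, ← map_inv,
    MulAut.smul_def, MulAut.conj_apply, inv_inv]
  exact ((Subgroup.mem_normalizer_iff''.1 (inf_normal_in hn h hu) d).1 hd).2

/-- If `Q` and `R` lie in different `P`-orbits, no nontrivial element is in `P`, `Q` and `R`. -/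
theorem orbit_cover (hn : Nat.card (Sylow 7 X) = 15) {P Q R : Sylow 7 X} (hQ : Q ≠ P) (hR : R ≠ P)
    (hQR : R ∉ orbit (P : Subgroup X) Q) (S : Sylow 7 X) :
    S = P ∨ S ∈ orbit (P : Subgroup X) Q ∨ S ∈ orbit (P : Subgroup X) R := by
  have size : ∀ T : Sylow 7 X, T ≠ P → (orbit (P : Subgroup X) T).ncard = 7 :=
    fun T hT => orbit_ncard hn hT
  have notP : ∀ T : Sylow 7 X, T ≠ P → P ∉ orbit (P : Subgroup X) T := by
    rintro T hT ⟨x, hx⟩
    apply hT
    have hself : (x : X)⁻¹ • P = P :=
      Sylow.smul_eq_iff_mem_normalizer.2 (inv_mem (le_normalizer x.2))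
    calc T = (x : X)⁻¹ • ((x : X) • T) := (inv_smul_smul _ _).symm
      _ = P := by rw [show (x : X) • T = P from hx, hself]
  have hdis : Disjoint (orbit (P : Subgroup X) Q) (orbit (P : Subgroup X) R) :=
    (MulAction.orbit.eq_or_disjoint Q R).resolve_left fun e => hQR (e ▸ mem_orbit_self R)
  have hall : (({P} : Set (Sylow 7 X)) ∪ (orbit (P : Subgroup X) Q ∪ orbit (P : Subgroup X) R)) = Set.univ := by
    refine Set.eq_of_subset_of_ncard_le (Set.subset_univ _) ?_ (Set.toFinite _)
    rw [Set.ncard_union_eq (by simp [notP Q hQ, notP R hR]), Set.ncard_singleton,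
      Set.ncard_union_eq hdis, size Q hQ, size R hR, Set.ncard_univ, hn]
  have := Set.eq_univ_iff_forall.1 hall S
  simpa using this

theorem exists_two (hn : Nat.card (Sylow 7 X) = 15) (P : Sylow 7 X) :
    ∃ Q R : Sylow 7 X, Q ≠ P ∧ R ≠ P ∧ R ∉ orbit (P : Subgroup X) Q := by
  classical
  haveI : Nontrivial (Sylow 7 X) := Finite.one_lt_card_iff_nontrivial.1 (by omega)
  obtain ⟨Q, hQ⟩ := exists_ne P
  by_contra hno
  push Not at hno
  have hall : Set.univ ⊆ ({P} : Set (Sylow 7 X)) ∪ orbit (P : Subgroup X) Q := by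
    intro R _
    by_cases hR : R = P
    · exact Or.inl hR
    · exact Or.inr (hno Q R hQ hR)
  have := (Set.ncard_le_ncard hall (Set.toFinite _)).trans (Set.ncard_union_le _ _)
  rw [Set.ncard_univ, hn, Set.ncard_singleton] at this
  have hsz := orbit_ncard hn hQ
  omega

variable (hfaith : ∀ x : X, (∀ P : Sylow 7 X, x • P = P) → x = 1)
include hfaith

theorem inf_inf_eq_bot (hn : Nat.card (Sylow 7 X) = 15) {P Q R : Sylow 7 X} (hQ : Q ≠ P)
    (hR : R ≠ P) (hQR : R ∉ orbit (P : Subgroup X) Q) :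
    ((P : Subgroup X) ⊓ Q) ⊓ ((P : Subgroup X) ⊓ R) = ⊥ := by
  rw [eq_bot_iff]
  intro x hx
  rw [Subgroup.mem_bot]
  refine hfaith x fun S => Sylow.smul_eq_iff_mem_normalizer.2 ?_
  rcases orbit_cover hn hQ hR hQR S with rfl | ⟨u, rfl⟩ | ⟨u, rfl⟩
  · exact le_normalizer hx.1.1
  · exact le_normalizer (inf_le_smul hn hQ u.2 hx.1)
  · exact le_normalizer (inf_le_smul hn hR u.2 hx.2)

theorem card_sylow_subgroup (hn : Nat.card (Sylow 7 X) = 15) (P : Sylow 7 X) :
    Nat.card P = 7 ∨ Nat.card P = 49 := by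
  obtain ⟨Q, R, hQ, hR, hQR⟩ := exists_two hn P
  have hbot := inf_inf_eq_bot hfaith hn hQ hR hQR
  have hle : Nat.card P ≤ 49 := by
    have h1 : ((P : Subgroup X) ⊓ Q).relIndex (P : Subgroup X) = 7 := by
      rw [Subgroup.inf_relIndex_left]; exact relIndex_eq_seven hn hQ
    have h2 : ((P : Subgroup X) ⊓ R).relIndex (P : Subgroup X) = 7 := by
      rw [Subgroup.inf_relIndex_left]; exact relIndex_eq_seven hn hR
    have h3 := Subgroup.relIndex_inf_le (H := (P : Subgroup X) ⊓ Q) (K := (P : Subgroup X) ⊓ R)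
      (L := (P : Subgroup X))
    rw [hbot, h1, h2, Subgroup.relIndex_bot_left] at h3
    exact h3
  obtain ⟨j, hj⟩ := IsPGroup.iff_card.1 P.2
  have h7 : 7 ∣ Nat.card P := by
    have h := Subgroup.relIndex_dvd_card (Q : Subgroup X) (P : Subgroup X)
    rwa [relIndex_eq_seven hn hQ] at h
  rcases j with _ | _ | _ | j
  · rw [hj] at h7; norm_num at h7
  · exact Or.inl (by rw [hj]; norm_num)
  · exact Or.inr (by rw [hj]; norm_num)
  · exfalso
    have h4 : 7 ^ 3 ≤ Nat.card P := by rw [hj]; exact Nat.pow_le_pow_right (by norm_num) (by omega)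
    norm_num at h4
    omega

theorem not_card_49 (hn : Nat.card (Sylow 7 X) = 15) (P₀ : Sylow 7 X) (h49 : Nat.card P₀ = 49) :
    False := by
  classical
  haveI := Fintype.ofFinite X
  haveI := Fintype.ofFinite (Sylow 7 X)
  haveI := Fintype.ofFinite (Subgroup X)
  have hcard : ∀ P : Sylow 7 X, Nat.card P = 49 := fun P =>
    (Nat.card_congr (P₀.equiv P).toEquiv).symm.trans h49
  have hD : ∀ {P Q : Sylow 7 X}, Q ≠ P → Nat.card ((P : Subgroup X) ⊓ Q : Subgroup X) = 7 := by
    intro P Q h
    have h1 := Subgroup.relIndex_mul_relIndex ⊥ ((P : Subgroup X) ⊓ Q) P bot_le inf_le_left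
    rw [Subgroup.relIndex_bot_left, Subgroup.relIndex_bot_left, Subgroup.inf_relIndex_left,
      relIndex_eq_seven hn h, hcard P] at h1
    omega
  let 𝒟 : Finset (Subgroup X) := Finset.univ.filter fun D =>
    ∃ P Q : Sylow 7 X, Q ≠ P ∧ (P : Subgroup X) ⊓ Q = D
  let r : Sylow 7 X → Subgroup X → Prop := fun S D => D ≤ (S : Subgroup X)
  -- each member lies in eight Sylow subgroups
  have eight : ∀ {P Q R : Sylow 7 X}, Q ≠ P → R ≠ P → R ∉ orbit (P : Subgroup X) Q →
      ∀ S : Sylow 7 X, ((P : Subgroup X) ⊓ Q ≤ S) ↔ (S = P ∨ S ∈ orbit (P : Subgroup X) Q) := by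
    intro P Q R hQ hR hQR S
    constructor
    · intro hS
      rcases orbit_cover hn hQ hR hQR S with h | h | ⟨u, rfl⟩
      · exact Or.inl h
      · exact Or.inr h
      · exfalso
        have hRne : (u : X) • R ≠ P := fun e => hR (by
          rw [← inv_smul_smul (u : X) R, e]
          exact Sylow.smul_eq_iff_mem_normalizer.2 (inv_mem (le_normalizer u.2)))
        have hle : (P : Subgroup X) ⊓ Q ≤ (P : Subgroup X) ⊓ R := by
          refine le_inf inf_le_left fun d hd => ?_
          have h1 := inf_le_smul hn hRne (inv_mem u.2) (show d ∈ _ from ⟨hd.1, hS hd⟩)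
          rwa [inv_smul_smul] at h1
        have hb := inf_inf_eq_bot hfaith hn hQ hR hQR
        rw [inf_eq_left.2 hle] at hb
        have := hD hQ
        rw [hb, Subgroup.card_bot] at this
        omega
    · rintro (rfl | ⟨u, rfl⟩)
      · exact inf_le_left
      · exact inf_le_smul hn hQ u.2
  have horb : ∀ {P Q : Sylow 7 X}, Q ≠ P → (orbit (P : Subgroup X) Q).ncard = 7 :=
    fun {P Q} h => orbit_ncard hn h
  have colEight : ∀ D ∈ 𝒟, (Finset.univ.filter fun S : Sylow 7 X => r S D).card = 8 := by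
    intro D hD'
    obtain ⟨P, Q, hQ, rfl⟩ := (Finset.mem_filter.1 hD').2
    obtain ⟨R, hR, hQR⟩ : ∃ R : Sylow 7 X, R ≠ P ∧ R ∉ orbit (P : Subgroup X) Q := by
      obtain ⟨A, B, hA, hB, hAB⟩ := exists_two hn P
      by_cases hm : B ∈ orbit (P : Subgroup X) Q
      · refine ⟨A, hA, fun hm2 => hAB ?_⟩
        rw [(orbit_eq_iff.2 hm2).trans rfl]
        exact hm
      · exact ⟨B, hB, hm⟩
    have hPnot : P ∉ orbit (P : Subgroup X) Q := by
      rintro ⟨x, hx⟩
      apply hQ
      rw [← inv_smul_smul (x : X) Q, show (x : X) • Q = P from hx]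
      exact Sylow.smul_eq_iff_mem_normalizer.2 (inv_mem (le_normalizer x.2))
    rw [← Set.ncard_coe_finset, show ((Finset.univ.filter fun S : Sylow 7 X => r S ((P : Subgroup X) ⊓ Q) : Finset _) : Set (Sylow 7 X)) =
      insert P (orbit (P : Subgroup X) Q) by ext S; simp [r, eight hQ hR hQR S],
      Set.ncard_insert_of_notMem hPnot, horb hQ]
  have rowTwo : ∀ S : Sylow 7 X, (𝒟.filter fun D => r S D).card = 2 := by
    intro P
    obtain ⟨Q, R, hQ, hR, hQR⟩ := exists_two hn P
    have hne : (P : Subgroup X) ⊓ Q ≠ (P : Subgroup X) ⊓ R := by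
      intro e
      have hb := inf_inf_eq_bot hfaith hn hQ hR hQR
      rw [← e, inf_idem] at hb
      have := hD hQ
      rw [hb, Subgroup.card_bot] at this
      omega
    rw [show (𝒟.filter fun D => r P D) = {(P : Subgroup X) ⊓ Q, (P : Subgroup X) ⊓ R} from ?_,
      Finset.card_pair hne]
    ext D
    simp only [𝒟, r, Finset.mem_filter, Finset.mem_univ, true_and, Finset.mem_insert,
      Finset.mem_singleton]
    constructor
    · rintro ⟨⟨A, B, hBA, rfl⟩, hle⟩
      obtain ⟨T, hT, hTle⟩ : ∃ T : Sylow 7 X, T ≠ P ∧ (A : Subgroup X) ⊓ B ≤ T := by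
        by_cases hA : A = P
        · exact ⟨B, hA ▸ hBA, inf_le_right⟩
        · exact ⟨A, hA, inf_le_left⟩
      have e : (A : Subgroup X) ⊓ B = (P : Subgroup X) ⊓ T :=
        Subgroup.eq_of_le_of_card_ge (le_inf hle hTle) (by rw [hD hT, hD hBA])
      rw [e]
      rcases orbit_cover hn hQ hR hQR T with h | ⟨u, rfl⟩ | ⟨u, rfl⟩
      · exact absurd h hT
      · exact Or.inl (Subgroup.eq_of_le_of_card_ge (le_inf inf_le_left (inf_le_smul hn hQ u.2))
          (le_of_eq ((hD hT).trans (hD hQ).symm))).symm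
      · exact Or.inr (Subgroup.eq_of_le_of_card_ge (le_inf inf_le_left (inf_le_smul hn hR u.2))
          (le_of_eq ((hD hT).trans (hD hR).symm))).symm
    · rintro (rfl | rfl)
      · exact ⟨⟨P, Q, hQ, rfl⟩, inf_le_left⟩
      · exact ⟨⟨P, R, hR, rfl⟩, inf_le_left⟩
  have hcount := Finset.card_mul_eq_card_mul r (s := (Finset.univ : Finset (Sylow 7 X))) (t := 𝒟)
    (m := 2) (n := 8) (fun S _ => rowTwo S) (fun D hD' => colEight D hD')
  rw [Finset.card_univ, ← Nat.card_eq_fintype_card, hn] at hcount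
  omega

omit [Finite X] in
theorem eq_one_of_fix {x : X} (h : ∀ S : Sylow 7 X, x • S = S) : x = 1 := hfaith x h

theorem not_card_7 (hn : Nat.card (Sylow 7 X) = 15) (P : Sylow 7 X) (h7 : Nat.card P = 7) :
    False := by
  classical
  haveI := Fintype.ofFinite (Sylow 7 X)
  obtain ⟨Q₀, R₀, hQ₀, hR₀, hQR₀⟩ := exists_two hn P
  set C := Subgroup.centralizer ((P : Subgroup X) : Set X)
  have hPcomm : (P : Subgroup X) ≤ C := by
    haveI : IsCyclic P := isCyclic_of_prime_card h7
    exact Subgroup.le_centralizer (P : Subgroup X)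
  have hCP : ∀ c ∈ C, c • P = P := fun c hc =>
    Sylow.smul_eq_iff_mem_normalizer.2 (Subgroup.centralizer_le_normalizer _ hc)
  have hcomm : ∀ c ∈ C, ∀ u ∈ (P : Subgroup X), ∀ S : Sylow 7 X, c • u • S = u • c • S := by
    intro c hc u hu S
    rw [← mul_smul, ← mul_smul, Subgroup.mem_centralizer_iff.1 hc u hu]
  -- `c ∈ C` fixing some `Q ≠ P` is trivial
  have hfree : ∀ c ∈ C, ∀ Q : Sylow 7 X, Q ≠ P → c • Q = Q → c = 1 := by
    intro c hc Q hQ hcQ
    obtain ⟨R, hR, hQR⟩ : ∃ R : Sylow 7 X, R ≠ P ∧ R ∉ orbit (P : Subgroup X) Q := by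
      by_cases hm : R₀ ∈ orbit (P : Subgroup X) Q
      · refine ⟨Q₀, hQ₀, fun hm2 => hQR₀ ?_⟩
        rw [orbit_eq_iff.2 hm2]; exact hm
      · exact ⟨R₀, hR₀, hm⟩
    -- `c` fixes the orbit of `Q` pointwise, so maps `R` into its own orbit
    have hfixQ : ∀ S ∈ orbit (P : Subgroup X) Q, c • S = S := by
      rintro _ ⟨u, rfl⟩
      show c • (u : X) • Q = (u : X) • Q
      rw [hcomm c hc u u.2, hcQ]
    obtain ⟨u, hu⟩ : c • R ∈ orbit (P : Subgroup X) R := by
      rcases orbit_cover hn hQ hR hQR (c • R) with h | h | h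
      · exact absurd (smul_left_cancel c (h.trans (hCP c hc).symm)) hR
      · exact absurd ((smul_left_cancel c ((hfixQ _ h).trans rfl) : c • R = R) ▸ h) hQR
      · exact h
    have hu' : (u : X) • R = c • R := hu
    have hpow : ∀ i : ℕ, c ^ i • R = (u : X) ^ i • R := by
      intro i
      induction i with
      | zero => simp
      | succ i ih =>
        rw [pow_succ, mul_smul, ← hu', hcomm _ (pow_mem hc i) u u.2, ih, ← mul_smul, ← pow_succ']
    have hu7 : (u : X) ^ 7 = 1 := by
      have h := congrArg Subtype.val (pow_card_eq_one' (x := u))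
      rwa [Subgroup.coe_pow, h7, Subgroup.coe_one] at h
    have hc7 : c ^ 7 = 1 := by
      refine hfaith _ fun S => ?_
      rcases orbit_cover hn hQ hR hQR S with rfl | h | ⟨v, rfl⟩
      · exact hCP _ (pow_mem hc 7)
      · have : ∀ i : ℕ, c ^ i • S = S := by
          intro i
          induction i with
          | zero => simp
          | succ i ih => rw [pow_succ, mul_smul, hfixQ S h, ih]
        exact this 7
      · show c ^ 7 • (v : X) • R = (v : X) • R
        rw [hcomm _ (pow_mem hc 7) v v.2, hpow, hu7, one_smul]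
    have hcP : c ∈ (P : Subgroup X) := by
      have hsup : IsPGroup 7 ((Subgroup.zpowers c) ⊔ (P : Subgroup X) : Subgroup X) := by
        refine IsPGroup.to_sup_of_normal_right' ?_ P.2
          (Subgroup.zpowers_le.2 (Subgroup.centralizer_le_normalizer _ hc))
        exact IsPGroup.of_card_dvd_pow (n := 1)
          (by rw [Nat.card_zpowers, pow_one]; exact orderOf_dvd_of_pow_eq_one hc7)
      exact P.3 hsup le_sup_right ▸ Subgroup.mem_sup_left (Subgroup.mem_zpowers c)
    have hcQ' : c ∈ (P : Subgroup X) ⊓ Subgroup.normalizer (Q : Set X) :=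
      ⟨hcP, Sylow.smul_eq_iff_mem_normalizer.1 hcQ⟩
    rw [P.2.inf_normalizer_sylow Q] at hcQ'
    have h1 := Subgroup.relIndex_mul_relIndex ⊥ ((P : Subgroup X) ⊓ Q) P bot_le inf_le_left
    rw [Subgroup.relIndex_bot_left, Subgroup.relIndex_bot_left, Subgroup.inf_relIndex_left,
      relIndex_eq_seven hn hQ, h7] at h1
    have hb : (P : Subgroup X) ⊓ Q = ⊥ := Subgroup.eq_bot_of_card_eq _ (by omega)
    rw [hb, Subgroup.mem_bot] at hcQ'
    exact hcQ'
  -- the centralizer has order 7 or 14
  have hC7 : 7 ∣ Nat.card C := h7 ▸ Subgroup.card_dvd_of_le hPcomm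
  have hC14 : Nat.card C ≤ 14 := by
    have hinj : Function.Injective fun c : C =>
        (⟨(c : X) • Q₀, fun e => hQ₀ (smul_left_cancel (c : X) (e.trans (hCP c c.2).symm))⟩ :
          {S : Sylow 7 X // S ≠ P}) := by
      intro a b hab
      have h1 : (a : X) • Q₀ = (b : X) • Q₀ := congrArg Subtype.val hab
      exact Subtype.ext (inv_mul_eq_one.1 (hfree _ (mul_mem (inv_mem a.2) b.2) Q₀ hQ₀
        (by rw [mul_smul, ← h1, inv_smul_smul])))
    refine le_trans (Nat.card_le_card_of_injective _ hinj) ?_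
    rw [Nat.card_eq_fintype_card, Fintype.card_subtype_compl, Fintype.card_subtype_eq,
      ← Nat.card_eq_fintype_card, hn]
  set N := Subgroup.normalizer ((P : Subgroup X) : Set X) with hNdef
  have hN6 : C.relIndex N ∣ 6 := by
    haveI hcyc : IsCyclic P := isCyclic_of_prime_card h7
    have key := card_dvd_of_injective _ (QuotientGroup.kerLift_injective (P : Subgroup X).normalizerMonoidHom)
    rwa [Subgroup.normalizerMonoidHom_ker, ← Subgroup.index, ← Subgroup.relIndex, hcyc.card_mulAut, h7,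
      Nat.totient_prime (by norm_num)] at key
  have hX : Nat.card X = Nat.card C * C.relIndex N * 15 := by
    have h1 := Subgroup.relIndex_mul_relIndex ⊥ C N bot_le (Subgroup.centralizer_le_normalizer _)
    rw [Subgroup.relIndex_bot_left, Subgroup.relIndex_bot_left] at h1
    have h2 : N.index = 15 := by
      have h3 := P.card_eq_index_normalizer
      rw [hn] at h3
      exact h3.symm
    rw [h1, ← h2, N.card_mul_index]
  obtain ⟨k, hk⟩ := hC7
  have hk' : k = 1 ∨ k = 2 := by
    have : 0 < Nat.card C := Nat.card_pos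
    omega
  rcases hk' with rfl | rfl
  · exact no_fifteen_small X (C.relIndex N) hN6 (by rw [hX, hk]; ring) hn
  -- an involution in the centralizer is an odd permutation
  · haveI : Fact (Nat.Prime 2) := ⟨by norm_num⟩
    obtain ⟨t, ht⟩ := exists_prime_orderOf_dvd_card' (G := C) 2 (by rw [hk]; norm_num)
    let π := MulAction.toPermHom X (Sylow 7 X)
    have ht2 : orderOf (t : X) = 2 := by rw [Subgroup.orderOf_coe, ht]
    have ht1 : (t : X) ≠ 1 := fun e => by rw [e, orderOf_one] at ht2; omega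
    have hsupp : (π t).support = ({P} : Finset (Sylow 7 X))ᶜ := by
      ext S
      rw [Equiv.Perm.mem_support, Finset.mem_compl, Finset.mem_singleton]
      constructor
      · intro hS e; exact hS (e ▸ hCP t t.2)
      · intro hS e; exact ht1 (hfree t t.2 S hS e)
    have hsign : Equiv.Perm.sign (π t) = -1 := by
      have hne : π t ≠ 1 := fun e => by
        rw [e, Equiv.Perm.support_one] at hsupp
        exact Finset.notMem_empty Q₀ (hsupp ▸ by simp [hQ₀])
      have ho : orderOf (π t) = 2 := by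
        refine orderOf_eq_prime ?_ hne
        rw [← map_pow, ← ht2, pow_orderOf_eq_one, map_one]
      obtain ⟨m, hm⟩ := Equiv.Perm.cycleType_prime_order (σ := π t) (by rw [ho]; norm_num)
      have hs := (π t).sum_cycleType
      rw [hm, ho, Multiset.sum_replicate, hsupp, Finset.card_compl, Finset.card_singleton,
        ← Nat.card_eq_fintype_card, hn, smul_eq_mul] at hs
      rw [Equiv.Perm.sign_of_cycleType, hm, ho, Multiset.sum_replicate, Multiset.card_replicate,
        smul_eq_mul, show m + 1 = 7 by omega]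
      decide
    let s := Equiv.Perm.sign.comp π
    have hsurj : Function.Surjective s := by
      intro u
      rcases Int.units_eq_one_or u with rfl | rfl
      · exact ⟨1, map_one _⟩
      · exact ⟨t, hsign⟩
    have hidx : s.ker.index = 2 := by
      rw [Subgroup.index_ker, MonoidHom.range_eq_top.2 hsurj, Subgroup.card_top]
      simp [Nat.card_eq_fintype_card]
    have hker := s.ker.card_mul_index
    rw [hidx, hX, hk] at hker
    exact no_fifteen_small s.ker (C.relIndex N) hN6 (by omega)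
      ((card_sylow_normal (p := 7) s.ker (by rw [hidx]; norm_num)).trans hn)

end

/-- No finite group has exactly 15 Sylow 7-subgroups. -/
theorem card_sylow_seven_ne_fifteen (G : Type*) [Group G] [Finite G] :
    Nat.card (Sylow 7 G) ≠ 15 := by
  intro hn
  obtain ⟨hcard, hf⟩ := exists_faithful 7 G
  rw [hn] at hcard
  obtain ⟨P⟩ : Nonempty (Sylow 7 (G ⧸ sylowKernel 7 G)) := inferInstance
  rcases card_sylow_subgroup hf hcard P with h | h
  · exact not_card_7 hf hcard P h
  · exact not_card_49 hf hcard P h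

end CfsgLib.SylowNumber
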