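import Cfsg.Agent.SylowNumber.TwentyTwoB

/-!
No finite group has exactly 22 Sylow 3-subgroups.
-/

set_option autoImplicit false
set_option linter.style.haveILetI false
set_option linter.unusedSectionVars false

namespace CfsgLib.SylowNumber22

open Subgroup MulAction Pointwise

variable {X : Type*} [Group X] [Finite X]
variable (hn : Nat.card (Sylow 3 X) = 22) (h3 : ∀ P : Sylow 3 X, Nat.card P = 3)
  (hfaith : ∀ x : X, (∀ P : Sylow 3 X, x • P = P) → x = 1)
variable {c : ℕ} (hX : Nat.card X = 132 * c) (hc11 : ¬ 11 ∣ c)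
  (h12 : Nat.card (Sylow 11 X) = 12)
  (hnorm : ∀ (R : Subgroup X), Nat.card R = 11 → ∀ g : X, g ^ 3 = 1 →
      g ∈ Subgroup.normalizer (R : Set X) → g = 1)
include hn h3 hfaith hX hc11 h12 hnorm

theorem card_eleven (R : Sylow 11 X) : Nat.card R = 11 := by
  have hc0 : c ≠ 0 := fun e => hc11 (e ▸ dvd_zero 11)
  have h' : ¬ 11 ∣ 12 * c := fun h =>
    ((Nat.Prime.dvd_mul (by norm_num : Nat.Prime 11)).1 h).elim (by norm_num) hc11
  rw [R.card_eq_multiplicity, hX, show 132 * c = 11 * (12 * c) by ring,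
    Nat.factorization_mul (by norm_num) (by omega), Finsupp.add_apply,
    (by norm_num : Nat.Prime 11).factorization_self, Nat.factorization_eq_zero_of_not_dvd h']
  norm_num

theorem card_normalizer (R : Sylow 11 X) :
    Nat.card (Subgroup.normalizer ((R : Subgroup X) : Set X)) = 11 * c := by
  have h := Subgroup.card_mul_index (Subgroup.normalizer ((R : Subgroup X) : Set X))
  have h2 : (Subgroup.normalizer ((R : Subgroup X) : Set X)).index = 12 :=
    R.card_eq_index_normalizer.symm.trans h12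
  rw [h2, hX] at h
  omega

theorem mem_eleven_of_fix {R S : Sylow 11 X} {r : X} (hr : r ∈ (R : Subgroup X)) (hr1 : r ≠ 1)
    (hS : r • S = S) : S = R := by
  have hrS : r ∈ (R : Subgroup X) ⊓ S := by
    rw [← R.2.inf_normalizer_sylow S]
    exact ⟨hr, Sylow.smul_eq_iff_mem_normalizer.1 hS⟩
  have hne : (R : Subgroup X) ⊓ S ≠ ⊥ := fun e => hr1 (Subgroup.mem_bot.1 (e ▸ hrS))
  have h := Subgroup.card_dvd_of_le (inf_le_left : (R : Subgroup X) ⊓ S ≤ R)
  rw [card_eleven hn h3 hfaith hX hc11 h12 hnorm R] at h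
  rcases (Nat.dvd_prime (by norm_num : Nat.Prime 11)).1 h with e | e
  · exact absurd (Subgroup.eq_bot_of_card_eq _ e) hne
  · have hle : (R : Subgroup X) ⊓ S = R :=
      Subgroup.eq_of_le_of_card_ge inf_le_left
        (le_of_eq ((card_eleven hn h3 hfaith hX hc11 h12 hnorm R).trans e.symm))
    exact Sylow.ext (R.3 S.2 (hle ▸ inf_le_right))

/-- The action on the Sylow 11-subgroups is faithful. -/
theorem faithful_eleven {x : X} (hx : ∀ R : Sylow 11 X, x • R = R) : x = 1 := by
  classical
  set K := (MulAction.toPermHom X (Sylow 11 X)).ker with hK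
  have hmemK : ∀ {k : X}, k ∈ K → ∀ R : Sylow 11 X, k • R = R := fun hk R =>
    Equiv.ext_iff.1 (MonoidHom.mem_ker.1 hk) R
  have hxK : x ∈ K := MonoidHom.mem_ker.2 (Equiv.ext hx)
  -- 11 does not divide the order of `K`
  have h11 : ¬ 11 ∣ Nat.card K := by
    intro h
    obtain ⟨k, hk⟩ := exists_prime_orderOf_dvd_card' (G := K) 11 h
    have hp : IsPGroup 11 (Subgroup.zpowers (k : X)) :=
      IsPGroup.of_card_dvd_pow (n := 1) (by rw [Nat.card_zpowers, pow_one, Subgroup.orderOf_coe, hk])
    obtain ⟨R, hR⟩ := hp.exists_le_sylow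
    have hk1 : (k : X) ≠ 1 := fun e => by
      rw [← Subgroup.orderOf_coe, e, orderOf_one] at hk
      norm_num at hk
    have hall : ∀ S : Sylow 11 X, S = R := fun S =>
      mem_eleven_of_fix hn h3 hfaith hX hc11 h12 hnorm (hR (Subgroup.mem_zpowers _)) hk1
        (hmemK k.2 S)
    haveI : Subsingleton (Sylow 11 X) := ⟨fun a b => (hall a).trans (hall b).symm⟩
    rw [Nat.card_of_subsingleton R] at h12
    norm_num at h12
  obtain ⟨P₀⟩ : Nonempty (Sylow 3 X) := inferInstance
  have hsmul : ∀ (g : X) (Q : Sylow 3 X), g • orbit K Q = orbit K (g • Q) := by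
    intro g Q
    ext R
    constructor
    · rintro ⟨_, ⟨k, rfl⟩, rfl⟩
      refine ⟨⟨g * k * g⁻¹, (inferInstance : K.Normal).conj_mem _ k.2 g⟩, ?_⟩
      show (g * (k : X) * g⁻¹) • g • Q = g • (k : X) • Q
      rw [← mul_smul, ← mul_smul]
      congr 1
      group
    · rintro ⟨k, rfl⟩
      have hmem : g⁻¹ * (k : X) * g ∈ K := by
        simpa using (inferInstance : K.Normal).conj_mem _ k.2 g⁻¹
      refine ⟨(g⁻¹ * (k : X) * g) • Q, ⟨⟨_, hmem⟩, rfl⟩, ?_⟩
      show g • (g⁻¹ * (k : X) * g) • Q = (k : X) • g • Q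
      rw [← mul_smul, ← mul_smul]
      congr 1
      group
  set d := (orbit K P₀).ncard
  have hd : ∀ Q : Sylow 3 X, (orbit K Q).ncard = d := by
    intro Q
    obtain ⟨g, rfl⟩ := MulAction.exists_smul_eq X P₀ Q
    rw [← hsmul]
    exact Set.ncard_image_of_injective _ (MulAction.injective g)
  have hd22 : d ∣ 22 := by
    rw [← hn, ← Set.ncard_univ]
    exact dvd_ncard_of_orbits (H := K) Set.univ d fun Q _ => ⟨Set.subset_univ _, hd Q⟩
  have hdK : d ∣ Nat.card K := by
    show (orbit K P₀).ncard ∣ Nat.card K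
    rw [← MulAction.index_stabilizer]
    exact Subgroup.index_dvd_card _
  have hd12 : d = 1 ∨ d = 2 := by
    have h : d ∣ 2 := ((Nat.Prime.coprime_iff_not_dvd (by norm_num : Nat.Prime 11)).2
      (fun h => h11 (h.trans hdK))).symm.dvd_of_dvd_mul_right (show d ∣ 2 * 11 from hd22)
    exact (Nat.dvd_prime Nat.prime_two).1 h
  rcases hd12 with e | e
  · refine hfaith x fun Q => ?_
    obtain ⟨a, ha⟩ := Set.ncard_eq_one.1 ((hd Q).trans e)
    have h1 : Q ∈ orbit K Q := mem_orbit_self Q
    have h2 : x • Q ∈ orbit K Q := mem_orbit Q (⟨x, hxK⟩ : K)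
    rw [ha, Set.mem_singleton_iff] at h1 h2
    rw [h2, h1]
  · exfalso
    obtain ⟨Q, hQ, hQne⟩ : ∃ Q ∈ orbit K P₀, Q ≠ P₀ := by
      obtain ⟨a, b, hab, h⟩ := Set.ncard_eq_two.1 e
      by_cases ha : a = P₀
      · exact ⟨b, by rw [h]; simp, fun hb => hab (ha.trans hb.symm)⟩
      · exact ⟨a, by rw [h]; simp, ha⟩
    obtain ⟨u, hu, hu1⟩ : ∃ u ∈ (P₀ : Subgroup X), u ≠ 1 := by
      by_contra hno
      push Not at hno
      have := h3 P₀
      rw [(Subgroup.eq_bot_iff_forall _).2 hno, Subgroup.card_bot] at this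
      norm_num at this
    have huP : u • P₀ = P₀ := Sylow.smul_eq_iff_mem_normalizer.2 (le_normalizer hu)
    have huQ : u • Q ∈ orbit K P₀ := by
      have := hsmul u P₀
      rw [huP] at this
      rw [← this]
      exact Set.smul_mem_smul_set hQ
    have huQne : u • Q ≠ P₀ := fun h => hQne (smul_left_cancel u (h.trans huP.symm))
    have huQ' : u • Q = Q := by
      obtain ⟨a, b, hab, h⟩ := Set.ncard_eq_two.1 e
      have hP₀ : P₀ ∈ orbit K P₀ := mem_orbit_self _
      rw [h] at hQ huQ hP₀
      simp only [Set.mem_insert_iff, Set.mem_singleton_iff] at hQ huQ hP₀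
      rcases hP₀ with r | r <;> rcases hQ with s | s <;> rcases huQ with t | t <;>
        first
          | exact absurd (s.trans r.symm) hQne
          | exact absurd (t.trans r.symm) huQne
          | exact t.trans s.symm
    exact hu1 (eq_one_of_fix_two hn h3 hQne hu huQ')

theorem orbit_eleven {R S : Sylow 11 X} {r : X} (hr : r ∈ (R : Subgroup X)) (hr1 : r ≠ 1)
    (hS : S ≠ R) (T : Sylow 11 X) (hT : T ≠ R) : ∃ i : ℤ, r ^ i • S = T := by
  have hRz : Subgroup.zpowers r = (R : Subgroup X) := by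
    refine Subgroup.eq_of_le_of_card_ge (Subgroup.zpowers_le.2 hr) ?_
    rw [card_eleven hn h3 hfaith hX hc11 h12 hnorm R, Nat.card_zpowers]
    have h := orderOf_dvd_natCard (⟨r, hr⟩ : (R : Subgroup X))
    rw [card_eleven hn h3 hfaith hX hc11 h12 hnorm R, ← Subgroup.orderOf_coe] at h
    rcases (Nat.dvd_prime (by norm_num : Nat.Prime 11)).1 h with e | e
    · exact absurd (orderOf_eq_one_iff.1 e) hr1
    · exact le_of_eq e.symm
  have hsub : orbit (R : Subgroup X) S ⊆ ({R} : Set (Sylow 11 X))ᶜ := by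
    rintro _ ⟨u, rfl⟩ e
    apply hS
    have e' : (u : X) • S = R := e
    rw [← inv_smul_smul (u : X) S, e']
    exact Sylow.smul_eq_iff_mem_normalizer.2 (inv_mem (le_normalizer u.2))
  have hstab : stabilizer (R : Subgroup X) S = ⊥ := by
    rw [eq_bot_iff]
    intro u hu
    by_contra h
    exact hS (mem_eleven_of_fix hn h3 hfaith hX hc11 h12 hnorm u.2
      (fun e => h (Subgroup.mem_bot.2 (Subtype.ext e))) hu)
  have hall : orbit (R : Subgroup X) S = ({R} : Set (Sylow 11 X))ᶜ := by
    refine Set.eq_of_subset_of_ncard_le hsub ?_ (Set.toFinite _)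
    rw [← MulAction.index_stabilizer, hstab, Subgroup.index_bot,
      card_eleven hn h3 hfaith hX hc11 h12 hnorm R, Set.ncard_compl, Set.ncard_singleton, h12]
  obtain ⟨u, hu⟩ : T ∈ orbit (R : Subgroup X) S := hall.symm.subset hT
  obtain ⟨i, hi⟩ := Subgroup.mem_zpowers_iff.1 (hRz.symm.le u.2)
  exact ⟨i, hi ▸ hu⟩

/-- The Sylow 11-subgroups are self-centralizing. -/
theorem centralizer_eleven {R : Sylow 11 X} {r z : X} (hr : r ∈ (R : Subgroup X)) (hr1 : r ≠ 1)
    (hzr : Commute z r) : z ∈ (R : Subgroup X) := by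
  haveI : Nontrivial (Sylow 11 X) := Finite.one_lt_card_iff_nontrivial.1 (by omega)
  obtain ⟨S, hS⟩ := exists_ne R
  have hzR : z • R = R := by
    refine mem_eleven_of_fix hn h3 hfaith hX hc11 h12 hnorm hr hr1 ?_
    rw [← mul_smul, ← hzr.eq, mul_smul, Sylow.smul_eq_iff_mem_normalizer.2 (le_normalizer hr)]
  obtain ⟨i, hi⟩ := orbit_eleven hn h3 hfaith hX hc11 h12 hnorm hr hr1 hS (z • S)
    (fun e => hS (smul_left_cancel z (e.trans hzR.symm)))
  have hw : (r ^ i)⁻¹ * z = 1 := by
    refine faithful_eleven hn h3 hfaith hX hc11 h12 hnorm fun T => ?_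
    by_cases hT : T = R
    · rw [hT, mul_smul, hzR]
      exact Sylow.smul_eq_iff_mem_normalizer.2 (inv_mem (le_normalizer (zpow_mem hr i)))
    · obtain ⟨j, rfl⟩ := orbit_eleven hn h3 hfaith hX hc11 h12 hnorm hr hr1 hS T hT
      have hcom : Commute ((r ^ i)⁻¹ * z) (r ^ j) :=
        Commute.mul_left ((Commute.refl r).zpow_zpow i j).inv_left (hzr.zpow_right j)
      rw [← mul_smul, hcom.eq, mul_smul, mul_smul, ← hi, inv_smul_smul]
  exact inv_mul_eq_one.1 hw ▸ zpow_mem hr i

theorem exists_ne_one_eleven (R : Sylow 11 X) : ∃ r ∈ (R : Subgroup X), r ≠ 1 := by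
  by_contra hno
  push Not at hno
  have := card_eleven hn h3 hfaith hX hc11 h12 hnorm R
  rw [(Subgroup.eq_bot_iff_forall _).2 hno, Subgroup.card_bot] at this
  norm_num at this

theorem c_dvd_ten : c ∣ 10 := by
  obtain ⟨R⟩ : Nonempty (Sylow 11 X) := inferInstance
  have hR := card_eleven hn h3 hfaith hX hc11 h12 hnorm R
  haveI : IsCyclic R := isCyclic_of_prime_card hR
  obtain ⟨r, hr, hr1⟩ := exists_ne_one_eleven hn h3 hfaith hX hc11 h12 hnorm R
  have hC : Subgroup.centralizer ((R : Subgroup X) : Set X) = (R : Subgroup X) :=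
    le_antisymm (fun z hz => centralizer_eleven hn h3 hfaith hX hc11 h12 hnorm hr hr1
      (Subgroup.mem_centralizer_iff.1 hz r hr).symm) (Subgroup.le_centralizer (R : Subgroup X))
  have key := card_dvd_of_injective _ (QuotientGroup.kerLift_injective (R : Subgroup X).normalizerMonoidHom)
  rw [Subgroup.normalizerMonoidHom_ker, ← Subgroup.index, ← Subgroup.relIndex,
    ‹IsCyclic R›.card_mulAut, hR, Nat.totient_prime (by norm_num : Nat.Prime 11), hC] at key
  have h1 := Subgroup.relIndex_mul_relIndex ⊥ (R : Subgroup X)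
    (Subgroup.normalizer ((R : Subgroup X) : Set X)) bot_le le_normalizer
  rw [Subgroup.relIndex_bot_left, Subgroup.relIndex_bot_left, hR,
    card_normalizer hn h3 hfaith hX hc11 h12 hnorm R] at h1
  rwa [Nat.eq_of_mul_eq_mul_left (by norm_num) h1] at key

variable (hcent : ∀ P : Sylow 3 X, Nat.card (Subgroup.centralizer ((P : Subgroup X) : Set X)) = 3 * c)
include hcent

theorem not_five_dvd : ¬ 5 ∣ c := by
  classical
  intro h5
  haveI : Fact (Nat.Prime 5) := ⟨by norm_num⟩
  obtain ⟨P⟩ : Nonempty (Sylow 3 X) := inferInstance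
  obtain ⟨y, hy⟩ := exists_prime_orderOf_dvd_card'
    (G := Subgroup.centralizer ((P : Subgroup X) : Set X)) 5 (hcent P ▸ Dvd.dvd.mul_left h5 3)
  have hy' : orderOf (y : X) = 5 := by rw [Subgroup.orderOf_coe]; exact hy
  set F : Set (Sylow 11 X) := {R | (y : X) • R = R}
  have hF5 : F.ncard % 5 = 2 := by
    have hp : IsPGroup 5 (Subgroup.zpowers (y : X)) :=
      IsPGroup.of_card_dvd_pow (n := 1) (by rw [Nat.card_zpowers, pow_one, hy'])
    have h : 12 % 5 = Nat.card (fixedPoints (Subgroup.zpowers (y : X)) (Sylow 11 X)) % 5 :=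
      h12 ▸ hp.card_modEq_card_fixedPoints (Sylow 11 X)
    rw [Nat.card_coe_set_eq] at h
    rw [show F = fixedPoints (Subgroup.zpowers (y : X)) (Sylow 11 X) from ?_]
    · omega
    ext R
    constructor
    · intro hR z
      obtain ⟨i, hi⟩ := Subgroup.mem_zpowers_iff.1 z.2
      show (z : X) • R = R
      have : (y : X) ∈ stabilizer X R := hR
      exact hi ▸ (zpow_mem this i : (y : X) ^ i ∈ stabilizer X R)
    · intro hR
      exact hR ⟨(y : X), Subgroup.mem_zpowers _⟩
  have hF3 : 3 ∣ F.ncard := by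
    refine dvd_ncard_of_orbits (H := (P : Subgroup X)) F 3 fun R hR => ⟨?_, ?_⟩
    · rintro _ ⟨u, rfl⟩
      show (y : X) • (u : X) • R = (u : X) • R
      rw [← mul_smul, ← Subgroup.mem_centralizer_iff.1 y.2 u u.2, mul_smul, hR]
    · rw [← MulAction.index_stabilizer]
      have hst : stabilizer (P : Subgroup X) R = ⊥ := by
        rw [eq_bot_iff]
        intro u hu
        exact Subgroup.mem_bot.2 (Subtype.ext (hnorm R (card_eleven hn h3 hfaith hX hc11 h12 hnorm R)
          u (orderOf_mem hn h3 u.2) (Sylow.smul_eq_iff_mem_normalizer.1 hu)))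
      rw [hst, Subgroup.index_bot, h3 P]
  have hlt : F.ncard < 12 := by
    rw [← h12]
    refine Set.ncard_lt_card fun e => ?_
    have hy1 : (y : X) = 1 := faithful_eleven hn h3 hfaith hX hc11 h12 hnorm fun R =>
      show R ∈ F from e ▸ Set.mem_univ R
    rw [hy1, orderOf_one] at hy'
    norm_num at hy'
  omega

omit hcent

/-- There are 120 elements of order 11. -/
theorem count_eleven [Fintype X] :
    120 ≤ (Finset.univ.filter fun x : X => orderOf x = 11).card := by
  classical
  haveI := Fintype.ofFinite (Sylow 11 X)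
  let B : Sylow 11 X → Finset X := fun R =>
    Finset.univ.filter fun x => x ∈ (R : Subgroup X) ∧ x ≠ 1
  have hB : ∀ R, (B R).card = 10 := by
    intro R
    have h : B R = (Finset.univ.filter fun x : X => x ∈ (R : Subgroup X)).erase 1 := by
      ext x; simp [B, and_comm]
    rw [h, Finset.card_erase_of_mem (by simp), ← Fintype.card_subtype, ← Nat.card_eq_fintype_card]
    show Nat.card (R : Subgroup X) - 1 = 10
    rw [card_eleven hn h3 hfaith hX hc11 h12 hnorm R]
  have hdis : ((Finset.univ : Finset (Sylow 11 X)) : Set (Sylow 11 X)).PairwiseDisjoint B := by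
    intro R _ S _ hRS
    rw [Function.onFun, Finset.disjoint_left]
    intro x hx hx'
    simp only [B, Finset.mem_filter, Finset.mem_univ, true_and] at hx hx'
    exact hRS (mem_eleven_of_fix hn h3 hfaith hX hc11 h12 hnorm hx.1 hx.2
      (Sylow.smul_eq_iff_mem_normalizer.2 (le_normalizer hx'.1))).symm
  have hsub : Finset.univ.biUnion B ⊆ Finset.univ.filter fun x : X => orderOf x = 11 := by
    intro x hx
    simp only [B, Finset.mem_biUnion, Finset.mem_filter, Finset.mem_univ, true_and] at hx
    obtain ⟨R, hxR, hx1⟩ := hx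
    have h := orderOf_dvd_natCard (⟨x, hxR⟩ : (R : Subgroup X))
    rw [card_eleven hn h3 hfaith hX hc11 h12 hnorm R, ← Subgroup.orderOf_coe] at h
    exact Finset.mem_filter.2 ⟨Finset.mem_univ _,
      ((Nat.dvd_prime (by norm_num : Nat.Prime 11)).1 h).resolve_left (orderOf_eq_one_iff.not.2 hx1)⟩
  have h := Finset.card_le_card hsub
  rw [Finset.card_biUnion hdis, Finset.sum_congr rfl (fun R _ => hB R), Finset.sum_const,
    smul_eq_mul, Finset.card_univ, ← Nat.card_eq_fintype_card, h12] at h
  exact h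

/-- There are 44 elements of order 3. -/
theorem count_three [Fintype X] :
    44 ≤ (Finset.univ.filter fun x : X => orderOf x = 3).card := by
  classical
  haveI := Fintype.ofFinite (Sylow 3 X)
  let B : Sylow 3 X → Finset X := fun R =>
    Finset.univ.filter fun x => x ∈ (R : Subgroup X) ∧ x ≠ 1
  have hB : ∀ R, (B R).card = 2 := by
    intro R
    have h : B R = (Finset.univ.filter fun x : X => x ∈ (R : Subgroup X)).erase 1 := by
      ext x; simp [B, and_comm]
    rw [h, Finset.card_erase_of_mem (by simp), ← Fintype.card_subtype, ← Nat.card_eq_fintype_card]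
    show Nat.card (R : Subgroup X) - 1 = 2
    rw [h3 R]
  have hdis : ((Finset.univ : Finset (Sylow 3 X)) : Set (Sylow 3 X)).PairwiseDisjoint B := by
    intro R _ S _ hRS
    rw [Function.onFun, Finset.disjoint_left]
    intro x hx hx'
    simp only [B, Finset.mem_filter, Finset.mem_univ, true_and] at hx hx'
    exact hx.2 (eq_one_of_fix_two hn h3 hRS.symm hx.1
      (Sylow.smul_eq_iff_mem_normalizer.2 (le_normalizer hx'.1)))
  have hsub : Finset.univ.biUnion B ⊆ Finset.univ.filter fun x : X => orderOf x = 3 := by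
    intro x hx
    simp only [B, Finset.mem_biUnion, Finset.mem_filter, Finset.mem_univ, true_and] at hx
    obtain ⟨R, hxR, hx1⟩ := hx
    exact Finset.mem_filter.2 ⟨Finset.mem_univ _,
      orderOf_eq_prime (orderOf_mem hn h3 hxR) hx1⟩
  have h := Finset.card_le_card hsub
  rw [Finset.card_biUnion hdis, Finset.sum_congr rfl (fun R _ => hB R), Finset.sum_const,
    smul_eq_mul, Finset.card_univ, ← Nat.card_eq_fintype_card, hn] at h
  exact h

include hcent

/-- For `c = 2` there are 44 elements of order 6. -/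
theorem count_six [Fintype X] (h2 : c = 2) :
    44 ≤ (Finset.univ.filter fun x : X => orderOf x = 6).card := by
  classical
  haveI : Fact (Nat.Prime 2) := ⟨Nat.prime_two⟩
  refine (count_three hn h3 hfaith hX hc11 h12 hnorm).trans ?_
  refine Finset.card_le_card_of_surjOn (fun x => x ^ 4) ?_
  intro g hg
  have hg3 : orderOf g = 3 := (Finset.mem_filter.1 (Finset.mem_coe.1 hg)).2
  obtain ⟨P, hP⟩ := exists_sylow_of_order_three hn h3 (hg3 ▸ pow_orderOf_eq_one g)
  obtain ⟨t, ht⟩ := exists_prime_orderOf_dvd_card'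
    (G := Subgroup.centralizer ((P : Subgroup X) : Set X)) 2 (by rw [hcent P, h2]; norm_num)
  have hcom : Commute g (t : X) := Subgroup.mem_centralizer_iff.1 t.2 g hP
  have ht2 : orderOf (t : X) = 2 := by rw [Subgroup.orderOf_coe]; exact ht
  refine ⟨g * t, Finset.mem_coe.2 (Finset.mem_filter.2 ⟨Finset.mem_univ _, ?_⟩), ?_⟩
  · rw [hcom.orderOf_mul_eq_mul_orderOf_of_coprime (by rw [hg3, ht2]; norm_num), hg3, ht2]
  · show (g * (t : X)) ^ 4 = g
    rw [hcom.mul_pow, ← pow_mod_orderOf g 4, ← pow_mod_orderOf (t : X) 4, hg3, ht2]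
    norm_num

omit hcent

/-- For `c = 2` there are at least 66 involutions. -/
theorem count_two [Fintype X] (h2 : c = 2) :
    66 ≤ (Finset.univ.filter fun x : X => orderOf x = 2).card := by
  classical
  haveI : Fact (Nat.Prime 2) := ⟨Nat.prime_two⟩
  haveI := Fintype.ofFinite (Sylow 11 X)
  let rel : Sylow 11 X → X → Prop := fun R t => t • R = R
  set A := Finset.univ.filter fun x : X => orderOf x = 2
  have hrow : ∀ R ∈ (Finset.univ : Finset (Sylow 11 X)), 11 ≤ (A.bipartiteAbove rel R).card := by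
    intro R _
    obtain ⟨s, hs⟩ := exists_prime_orderOf_dvd_card'
      (G := Subgroup.normalizer ((R : Subgroup X) : Set X)) 2
      (by rw [card_normalizer hn h3 hfaith hX hc11 h12 hnorm R, h2]; norm_num)
    have hs2 : orderOf (s : X) = 2 := by rw [Subgroup.orderOf_coe]; exact hs
    let f : ↥(R : Subgroup X) → X := fun u => MulAut.conj (u : X) (s : X)
    have hinj : Function.Injective f := by
      intro u v huv
      by_contra hne
      have hcom : Commute (s : X) ((v : X)⁻¹ * u) := by
        have h : (u : X) * s * (u : X)⁻¹ = (v : X) * s * (v : X)⁻¹ := huv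
        have h' := congrArg (fun w => (v : X)⁻¹ * w * (u : X)) h
        simp only [mul_assoc, inv_mul_cancel, inv_mul_cancel_left, mul_one] at h'
        show (s : X) * ((v : X)⁻¹ * u) = (v : X)⁻¹ * u * s
        rw [mul_assoc ((v : X)⁻¹)]
        exact h'.symm
      have hne1 : (v : X)⁻¹ * u ≠ 1 := fun e => hne (Subtype.ext (inv_mul_eq_one.1 e).symm)
      have hsR := centralizer_eleven hn h3 hfaith hX hc11 h12 hnorm
        (mul_mem (inv_mem v.2) u.2) hne1 hcom
      have h := orderOf_dvd_natCard (⟨(s : X), hsR⟩ : (R : Subgroup X))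
      rw [card_eleven hn h3 hfaith hX hc11 h12 hnorm R, ← Subgroup.orderOf_coe, hs2] at h
      norm_num at h
    have hsub : (Finset.univ.image f) ⊆ A.bipartiteAbove rel R := by
      intro x hx
      obtain ⟨u, -, rfl⟩ := Finset.mem_image.1 hx
      refine (Finset.mem_bipartiteAbove rel).2 ⟨Finset.mem_filter.2 ⟨Finset.mem_univ _, ?_⟩, ?_⟩
      · show orderOf ((MulAut.conj (u : X)).toMonoidHom (s : X)) = 2
        rw [orderOf_injective _ (MulAut.conj (u : X)).injective, hs2]
      · show ((u : X) * s * (u : X)⁻¹) • R = R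
        exact Sylow.smul_eq_iff_mem_normalizer.2
          (mul_mem (mul_mem (le_normalizer u.2) s.2) (inv_mem (le_normalizer u.2)))
    refine le_trans (le_of_eq ?_) (Finset.card_le_card hsub)
    rw [Finset.card_image_of_injective _ hinj, Finset.card_univ, ← Nat.card_eq_fintype_card,
      card_eleven hn h3 hfaith hX hc11 h12 hnorm R]
  have hcol : ∀ t ∈ A, ((Finset.univ : Finset (Sylow 11 X)).bipartiteBelow rel t).card ≤ 2 := by
    intro t ht
    by_contra hlt
    rw [not_le, Finset.two_lt_card_iff] at hlt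
    obtain ⟨R, S, T, hR, hS, hT, hRS, hRT, hST⟩ := hlt
    have hR' : t • R = R := ((Finset.mem_bipartiteBelow rel).1 hR).2
    have hS' : t • S = S := ((Finset.mem_bipartiteBelow rel).1 hS).2
    have hT' : t • T = T := ((Finset.mem_bipartiteBelow rel).1 hT).2
    obtain ⟨r, hr, hr1⟩ := exists_ne_one_eleven hn h3 hfaith hX hc11 h12 hnorm R
    obtain ⟨i, hi⟩ := orbit_eleven hn h3 hfaith hX hc11 h12 hnorm hr hr1 hRS.symm T hRT.symm
    set w := r ^ i
    have hw : w ∈ (R : Subgroup X) := zpow_mem hr i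
    have hw1 : w ≠ 1 := fun e => hST (by rw [← hi, e, one_smul])
    have htN : t ∈ Subgroup.normalizer ((R : Subgroup X) : Set X) :=
      Sylow.smul_eq_iff_mem_normalizer.1 hR'
    have hv : t⁻¹ * w⁻¹ * t ∈ (R : Subgroup X) :=
      (Subgroup.mem_normalizer_iff''.1 htN w⁻¹).1 (inv_mem hw)
    have hfix : (t⁻¹ * w⁻¹ * t * w) • S = S := by
      rw [mul_smul, hi, mul_smul, hT', mul_smul, ← hi, inv_smul_smul,
        inv_smul_eq_iff]
      exact hS'.symm
    have hone : t⁻¹ * w⁻¹ * t * w = 1 := by
      by_contra hne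
      exact hRS.symm (mem_eleven_of_fix hn h3 hfaith hX hc11 h12 hnorm (mul_mem hv hw) hne hfix)
    have hcom : Commute t w := by
      have h := congrArg (fun z => w * t * z) hone
      simp only [mul_assoc, mul_one] at h
      simp only [mul_inv_cancel_left] at h
      exact h
    have htR := centralizer_eleven hn h3 hfaith hX hc11 h12 hnorm hw hw1 hcom
    have h := orderOf_dvd_natCard (⟨t, htR⟩ : (R : Subgroup X))
    rw [card_eleven hn h3 hfaith hX hc11 h12 hnorm R, ← Subgroup.orderOf_coe,
      (Finset.mem_filter.1 ht).2] at h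
    norm_num at h
  have h := Finset.card_mul_le_card_mul rel (m := 11) (n := 2) hrow hcol
  rw [Finset.card_univ, ← Nat.card_eq_fintype_card, h12] at h
  omega

include hcent

theorem absurd_orders : False := by
  classical
  haveI := Fintype.ofFinite X
  have h10 := c_dvd_ten hn h3 hfaith hX hc11 h12 hnorm
  have h5 := not_five_dvd hn h3 hfaith hX hc11 h12 hnorm hcent
  have hc12 : c = 1 ∨ c = 2 :=
    (Nat.dvd_prime Nat.prime_two).1
      ((Nat.Prime.coprime_iff_not_dvd (by norm_num : Nat.Prime 5)).2 h5 |>.symm.dvd_of_dvd_mul_right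
        (show c ∣ 2 * 5 from h10))
  have h11 := count_eleven hn h3 hfaith hX hc11 h12 hnorm
  have h33 := count_three hn h3 hfaith hX hc11 h12 hnorm
  have hcard : Fintype.card X = 132 * c := by rw [← Nat.card_eq_fintype_card]; exact hX
  have hdis : ∀ a b : ℕ, a ≠ b → Disjoint (Finset.univ.filter fun x : X => orderOf x = a)
      (Finset.univ.filter fun x : X => orderOf x = b) := fun a b hab =>
    Finset.disjoint_left.2 fun x hx hx' =>
      hab ((Finset.mem_filter.1 hx).2.symm.trans (Finset.mem_filter.1 hx').2)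
  rcases hc12 with h | h
  · have := Finset.card_le_univ ((Finset.univ.filter fun x : X => orderOf x = 11) ∪
      (Finset.univ.filter fun x : X => orderOf x = 3))
    rw [Finset.card_union_of_disjoint (hdis _ _ (by norm_num)), hcard, h] at this
    omega
  · have h66 := count_six hn h3 hfaith hX hc11 h12 hnorm hcent h
    have h22 := count_two hn h3 hfaith hX hc11 h12 hnorm h
    have := Finset.card_le_univ ((((Finset.univ.filter fun x : X => orderOf x = 11) ∪
      (Finset.univ.filter fun x : X => orderOf x = 3)) ∪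
      (Finset.univ.filter fun x : X => orderOf x = 6)) ∪
      (Finset.univ.filter fun x : X => orderOf x = 2))
    rw [Finset.card_union_of_disjoint, Finset.card_union_of_disjoint,
      Finset.card_union_of_disjoint (hdis _ _ (by norm_num)), hcard, h] at this
    · omega
    · exact Finset.disjoint_union_left.2 ⟨hdis _ _ (by norm_num), hdis _ _ (by norm_num)⟩
    · exact Finset.disjoint_union_left.2 ⟨Finset.disjoint_union_left.2
        ⟨hdis _ _ (by norm_num), hdis _ _ (by norm_num)⟩, hdis _ _ (by norm_num)⟩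

omit hn h3 hfaith hX hc11 h12 hnorm hcent

theorem card_sylow_three_ne_twentytwo (G : Type*) [Group G] [Finite G] :
    Nat.card (Sylow 3 G) ≠ 22 := by
  intro hn
  obtain ⟨hcard, hfaith⟩ := SylowNumber.exists_faithful 3 G
  rw [hn] at hcard
  have h3 := card_sylow_three hcard hfaith
  obtain ⟨c, hX, -, hc11, hcent, h12, hnorm⟩ := orders hcard h3 hfaith
  exact absurd_orders hcard h3 hfaith hX hc11 h12 hnorm hcent

end CfsgLib.SylowNumber22
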