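import Mathlib.GroupTheory.Perm.Cycle.Type
import Mathlib.GroupTheory.Perm.Centralizer
import Mathlib.GroupTheory.SpecificGroups.Cyclic
import Mathlib.GroupTheory.Sylow
import Mathlib.Tactic.NormNum.Prime
import Cfsg.Agent.Char.Burnside
import Cfsg.Agent.Solvable.Basics

/-!
Subgroups of `Perm (Fin 7)` of order divisible by 7 but not by 3 have order dividing 14.
-/

set_option autoImplicit false
set_option linter.style.haveILetI false

namespace CfsgLib.SylowNumber22

open Subgroup MulAction Equiv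

theorem exists_pow_apply_seven {y : Perm (Fin 7)} (hy : orderOf y = 7) (x : Fin 7) :
    ∀ z : Fin 7, ∃ i : ℤ, (y ^ i) x = z := by
  haveI : Fact (Nat.Prime 7) := ⟨by norm_num⟩
  have hc : y.IsCycle := Perm.isCycle_of_prime_order'' (by norm_num) (by rw [hy]; simp)
  have hs : y.support = Finset.univ := by
    apply Finset.eq_univ_of_card
    rw [← hc.orderOf, hy, Fintype.card_fin]
  intro z
  exact hc.sameCycle (Perm.mem_support.1 (hs ▸ Finset.mem_univ x))
    (Perm.mem_support.1 (hs ▸ Finset.mem_univ z))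

theorem card_dvd_fourteen_of_seven_dvd (K : Subgroup (Perm (Fin 7))) (h7 : 7 ∣ Nat.card K)
    (h3 : ¬ 3 ∣ Nat.card K) : Nat.card K ∣ 14 := by
  classical
  haveI : Fact (Nat.Prime 7) := ⟨by norm_num⟩
  have hK560 : Nat.card K ∣ 560 := by
    have h : Nat.card K ∣ 560 * 3 ^ 2 := by
      have e : Nat.card (Perm (Fin 7)) = 560 * 3 ^ 2 := by
        rw [Nat.card_eq_fintype_card, Fintype.card_perm, Fintype.card_fin]
        norm_num [Nat.factorial]
      exact e ▸ Subgroup.card_subgroup_dvd_card K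
    exact (((Nat.prime_three.coprime_iff_not_dvd.2 h3).symm).pow_right 2).dvd_of_dvd_mul_right h
  obtain ⟨R⟩ : Nonempty (Sylow 7 K) := inferInstance
  have hR : Nat.card R = 7 := by
    obtain ⟨j, hj⟩ := IsPGroup.iff_card.1 R.2
    have h1 : Nat.card R ∣ 560 := (Subgroup.card_subgroup_dvd_card _).trans hK560
    have h2 : 7 ∣ Nat.card R := R.dvd_card_of_dvd_card h7
    rcases j with _ | _ | j
    · rw [hj] at h2; norm_num at h2
    · rw [hj]; norm_num
    · exfalso
      rw [hj] at h1
      have h49 : (7 : ℕ) ^ 2 ∣ 560 := (pow_dvd_pow 7 (by omega)).trans h1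
      norm_num at h49
  haveI : IsCyclic R := isCyclic_of_prime_card hR
  obtain ⟨y, hy⟩ := exists_prime_orderOf_dvd_card' (G := R) 7 (by rw [hR])
  have hy' : orderOf ((y : K) : Perm (Fin 7)) = 7 := by
    rw [Subgroup.orderOf_coe, Subgroup.orderOf_coe]; exact hy
  -- the normalizer of `R` has order dividing 14
  have hcent : Subgroup.centralizer ((R : Subgroup K) : Set K) ≤ (R : Subgroup K) := by
    intro z hz
    obtain ⟨i, hi⟩ := exists_pow_apply_seven hy' 0 (((z : K) : Perm (Fin 7)) 0)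
    have hcom : Commute ((z : K) : Perm (Fin 7)) ((y : K) : Perm (Fin 7)) :=
      (congrArg Subtype.val (Subgroup.mem_centralizer_iff.1 hz (y : K) y.2)).symm
    have he : ((z : K) : Perm (Fin 7)) = (((y : K) : Perm (Fin 7))) ^ i := by
      refine Equiv.ext fun x => ?_
      obtain ⟨j, rfl⟩ := exists_pow_apply_seven hy' 0 x
      rw [← Perm.mul_apply, (hcom.zpow_right j).eq, Perm.mul_apply, ← hi, ← Perm.mul_apply,
        ← Perm.mul_apply, ((Commute.refl _).zpow_zpow i j).eq]
    have : z = (y : K) ^ i := Subtype.ext (by rw [Subgroup.coe_zpow]; exact he)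
    rw [this]
    exact zpow_mem y.2 i
  set N := Subgroup.normalizer ((R : Subgroup K) : Set K) with hN
  have hN14 : Nat.card N ∣ 14 := by
    have key := card_dvd_of_injective _ (QuotientGroup.kerLift_injective (R : Subgroup K).normalizerMonoidHom)
    rw [Subgroup.normalizerMonoidHom_ker, ← Subgroup.index, ← Subgroup.relIndex, ‹IsCyclic R›.card_mulAut,
      hR, Nat.totient_prime (by norm_num : Nat.Prime 7)] at key
    have hC : Subgroup.centralizer ((R : Subgroup K) : Set K) = (R : Subgroup K) :=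
      le_antisymm hcent (Subgroup.le_centralizer (R : Subgroup K))
    rw [hC, ← hN] at key
    have h1 := Subgroup.relIndex_mul_relIndex ⊥ (R : Subgroup K) N bot_le le_normalizer
    rw [Subgroup.relIndex_bot_left, Subgroup.relIndex_bot_left, hR] at h1
    have h42 : Nat.card N ∣ 14 * 3 := by rw [← h1]; exact Nat.mul_dvd_mul_left 7 key
    have h3N : ¬ 3 ∣ Nat.card N := fun h => h3 (h.trans (Subgroup.card_subgroup_dvd_card N))
    exact ((Nat.prime_three.coprime_iff_not_dvd.2 h3N).symm).dvd_of_dvd_mul_right h42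
  have hmul : Nat.card N * Nat.card (Sylow 7 K) = Nat.card K := by
    rw [R.card_eq_index_normalizer]; exact Subgroup.card_mul_index N
  by_cases h1 : Nat.card (Sylow 7 K) = 1
  · rw [h1, mul_one] at hmul
    rwa [← hmul]
  exfalso
  have h7N : 7 ∣ Nat.card N := by
    have := Subgroup.card_dvd_of_le (le_normalizer : (R : Subgroup K) ≤ N)
    rwa [hR] at this
  have hmod : Nat.card (Sylow 7 K) % 7 = 1 := card_sylow_modEq_one 7 K
  have hn8 : Nat.card (Sylow 7 K) = 8 := by
    obtain ⟨a, ha⟩ := h7N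
    have h80 : Nat.card (Sylow 7 K) ∣ 80 := by
      have h560 : 7 * Nat.card (Sylow 7 K) ∣ 7 * 80 := by
        refine dvd_trans ?_ (hK560.trans (by norm_num))
        exact ⟨a, by rw [← hmul, ha]; ring⟩
      exact Nat.dvd_of_mul_dvd_mul_left (by norm_num) h560
    have := Nat.le_of_dvd (by norm_num) h80
    obtain ⟨t, ht⟩ : ∃ t, Nat.card (Sylow 7 K) = 7 * t + 1 :=
      ⟨Nat.card (Sylow 7 K) / 7, by omega⟩
    have : t ≤ 11 := by omega
    interval_cases t <;> simp_all
  -- `K` is solvable, so it has a normal subgroup of prime power order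
  obtain ⟨a, b, hab⟩ : ∃ a b, Nat.card K = 2 ^ a * 7 ^ b := by
    rw [hn8] at hmul
    have hNle : Nat.card N ≤ 14 := Nat.le_of_dvd (by norm_num) hN14
    obtain ⟨a, ha⟩ := h7N
    rcases (show a = 1 ∨ a = 2 by have : 0 < Nat.card N := Nat.card_pos; omega) with rfl | rfl
    · exact ⟨3, 1, by omega⟩
    · exact ⟨4, 1, by omega⟩
  have hsol : Group.IsSolvable K :=
    CfsgLib.Char.isSolvable_of_card_eq 2 7 a b Nat.prime_two (by norm_num) hab
  haveI : Nontrivial K := Finite.one_lt_card_iff_nontrivial.1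
    (lt_of_lt_of_le (by norm_num : 1 < 7) (Nat.le_of_dvd Nat.card_pos h7))
  haveI := hsol
  haveI : Group.IsSolvable (⊤ : Subgroup K) :=
    Group.isSolvable_of_isSolvable_injective (Subgroup.subtype_injective _)
  obtain ⟨M, hM, hM1, -, -, -, p, hp, -, hMp⟩ :=
    CfsgLib.Solvable.exists_normal_elementary_le (N := (⊤ : Subgroup K)) top_ne_bot inferInstance
  haveI := hM
  haveI := Fact.mk hp
  obtain ⟨k, hk⟩ := IsPGroup.iff_card.1 hMp
  have hk1 : k ≠ 0 := by
    rintro rfl
    exact hM1 (Subgroup.eq_bot_of_card_eq _ (by rw [hk, pow_zero]))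
  have hpd : p ∣ 2 ^ a * 7 ^ b := by
    rw [← hab]
    exact ((dvd_pow_self p hk1).trans hk.symm.dvd).trans (Subgroup.card_subgroup_dvd_card M)
  rcases hp.dvd_mul.1 hpd with hp2 | hp7
  · obtain rfl := (Nat.prime_dvd_prime_iff_eq hp Nat.prime_two).1 (hp.dvd_of_dvd_pow hp2)
    -- a normal 2-subgroup has a fixed point, hence fixes everything
    obtain ⟨x, hx⟩ : (fixedPoints M (Fin 7)).Nonempty :=
      hMp.nonempty_fixed_point_of_prime_not_dvd_card (Fin 7) (by simp)
    refine hM1 ((Subgroup.eq_bot_iff_forall _).2 fun m hm => Subtype.ext (Equiv.ext fun z => ?_))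
    obtain ⟨i, rfl⟩ := exists_pow_apply_seven hy' x z
    have hconj : ((y : K) ^ i)⁻¹ * m * (y : K) ^ i ∈ M := by
      simpa using hM.conj_mem m hm ((y : K) ^ i)⁻¹
    have h2 : ((((y : K) ^ i)⁻¹ * m * (y : K) ^ i : K) : Perm (Fin 7)) x = x := hx ⟨_, hconj⟩
    rw [Subgroup.coe_mul, Subgroup.coe_mul, Subgroup.coe_inv, Subgroup.coe_zpow, Perm.mul_apply,
      Perm.mul_apply] at h2
    exact Perm.eq_inv_iff_eq.1 h2.symm |>.symm
  · obtain rfl := (Nat.prime_dvd_prime_iff_eq hp (by norm_num)).1 (hp.dvd_of_dvd_pow hp7)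
    obtain ⟨R', hR'⟩ := hMp.exists_le_sylow
    have hMR : M = (R' : Subgroup K) := by
      refine Subgroup.eq_of_le_of_card_ge hR' ?_
      rw [hk, ← Nat.card_congr (R.equiv R').toEquiv, hR]
      calc 7 = 7 ^ 1 := (pow_one 7).symm
        _ ≤ 7 ^ k := Nat.pow_le_pow_right (by norm_num) (Nat.pos_of_ne_zero hk1)
    haveI : (R' : Subgroup K).Normal := hMR ▸ hM
    haveI := Sylow.unique_of_normal R' inferInstance
    exact h1 Nat.card_unique

end CfsgLib.SylowNumber22
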