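import Cfsg.Agent.Perm.PrimeAddOneMain
import Cfsg.Agent.Classical.PSLTwoSub
import Cfsg.Agent.SylowNumber.Basic
import Mathlib.NumberTheory.Divisors

/-!
Sylow numbers {18, 136, 153}: the group induced on eighteen Sylow 17-subgroups, and the Sylow
numbers of groups containing `PSL₂(17)` with index at most two.
-/

set_option autoImplicit false
set_option linter.style.haveILetI false
set_option linter.unusedSectionVars false

namespace CfsgLib.SylowNumber17

open Subgroup MulAction

universe u

instance fact_seventeen : Fact (Nat.Prime 17) := ⟨by norm_num⟩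

abbrev P17 : Type := CfsgLib.Dickson.PSL2 (ZMod 17)

theorem card_P17 : Nat.card P17 = 2448 := by
  rw [CfsgLib.Linear.PSLTwo.card_eq, Nat.card_zmod]
  norm_num

theorem simple_P17 : IsSimpleGroup P17 :=
  CfsgLib.Linear.PSLTwo.isSimple (by rw [Nat.card_zmod]; norm_num)

/-- Orders of proper subgroups of `PSL₂(17)`. -/
theorem sub_orders' {F : Type} [Field F] [Finite F] [CharP F 17] (hF : Nat.card F = 17)
    (H : Subgroup (CfsgLib.Dickson.PSL2 F)) (hH : H ≠ ⊤) :
    Nat.card H ≤ 24 ∨ Nat.card H = 60 ∨ Nat.card H ∣ 136 := by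
  classical
  rcases CfsgLib.Linear.PSLTwo.proper_cases 17 H hH with ⟨P, -, hle⟩ | ⟨-, -, hc⟩ |
    ⟨k, -, -, hk, hc, -⟩ | ⟨-, hc, -⟩ | ⟨-, hc, -⟩ | ⟨-, -, hc, -⟩ | ⟨f, m, hf, hm, hq, -⟩
  · refine Or.inr (Or.inr ?_)
    have h := Subgroup.card_dvd_of_le hle
    rw [CfsgLib.Linear.PSLTwo.card_normalizer, hF] at h
    norm_num [-Nat.card_eq_fintype_card] at h
    exact h
  · rw [hF] at hc
    norm_num [-Nat.card_eq_fintype_card] at hc
    refine Or.inl ?_
    rcases hc with h | h <;> (have := Nat.le_of_dvd (by norm_num) h; omega)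
  · rw [hF] at hk
    norm_num [-Nat.card_eq_fintype_card] at hk
    refine Or.inl ?_
    rcases hk with h | h <;> (have := Nat.le_of_dvd (by norm_num) h; omega)
  · exact Or.inl (by omega)
  · exact Or.inl (by omega)
  · exact Or.inr (Or.inl hc)
  · exfalso
    rw [hF, ← pow_mul] at hq
    have h2 : 17 ^ 2 ≤ 17 ^ (f * m) :=
      Nat.pow_le_pow_right (by norm_num) (by nlinarith)
    omega

theorem sub_orders (H : Subgroup P17) (hH : H ≠ ⊤) :
    Nat.card H ≤ 24 ∨ Nat.card H = 60 ∨ Nat.card H ∣ 136 :=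
  sub_orders' (Nat.card_zmod 17) H hH

/-- The indices that do not occur in `PSL₂(17)`. -/
theorem index_not_mem (H : Subgroup P17) :
    H.index ∉ ({2, 3, 4, 8, 9, 17, 34, 51, 68} : Finset ℕ) := by
  intro hm
  have hmul := H.card_mul_index
  rw [card_P17] at hmul
  have hne : H ≠ ⊤ := fun e => by rw [e, Subgroup.index_top] at hm; simp at hm
  have h := sub_orders H hne
  simp only [Finset.mem_insert, Finset.mem_singleton] at hm
  rcases hm with e | e | e | e | e | e | e | e | e <;> rw [e] at hmul <;>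
    (have hc : Nat.card H ∈ ({1224, 816, 612, 306, 272, 144, 72, 48, 36} : Finset ℕ) := by
       simp only [Finset.mem_insert, Finset.mem_singleton]; omega) <;>
    (simp only [Finset.mem_insert, Finset.mem_singleton] at hc) <;>
    (rcases h with h | h | h
     · omega
     · omega
     · rcases hc with c | c | c | c | c | c | c | c | c <;> rw [c] at h <;> norm_num at h)

section Over

variable {X : Type u} [Group X] [Finite X] (ι : P17 →* X)

/-- A normal subgroup containing an element of order `r` from each conjugate contains the image. -/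
theorem range_le_of_normal (T : Subgroup X) [T.Normal]
    (g : P17) (hg : g ≠ 1) (h : ι g ∈ T) : ι.range ≤ T := by
  haveI := simple_P17
  haveI : (T.comap ι).Normal := inferInstance
  rcases (inferInstance : (T.comap ι).Normal).eq_bot_or_eq_top with e | e
  · exact absurd (Subgroup.mem_bot.1 (e ▸ (h : g ∈ T.comap ι))) hg
  · rintro x ⟨y, rfl⟩
    exact (e ▸ Subgroup.mem_top y : y ∈ T.comap ι)

theorem exists_of_dvd {r : ℕ} [Fact r.Prime] (hr : r ∣ 2448) : ∃ g : P17, orderOf g = r :=
  exists_prime_orderOf_dvd_card' r (by rw [card_P17]; exact hr)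

/-- The Sylow subgroups of one prime generate at least the image. -/
theorem range_le_iSup (hι : Function.Injective ι) {r : ℕ} [Fact r.Prime] (hr : r ∣ 2448)
    (T : Subgroup X) (hT : ∀ S : Sylow r X, (S : Subgroup X) ≤ T) : ι.range ≤ T := by
  set U := Subgroup.normalClosure {x : X | ∃ S : Sylow r X, x ∈ (S : Subgroup X)}
  have hUT : U ≤ T := by
    have hcl : Subgroup.closure {x : X | ∃ S : Sylow r X, x ∈ (S : Subgroup X)} = U := by
      refine le_antisymm Subgroup.closure_le_normalClosure ?_
      refine (Subgroup.closure_le _).2 ?_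
      intro x hx
      obtain ⟨y, ⟨S, hy⟩, hxy⟩ := Group.mem_conjugatesOfSet_iff.1 hx
      obtain ⟨c, rfl⟩ := isConj_iff.1 hxy
      refine Subgroup.subset_closure ⟨c • S, ?_⟩
      rw [Sylow.coe_subgroup_smul, Subgroup.mem_pointwise_smul_iff_inv_smul_mem]
      simpa [MulAut.conj, mul_assoc] using hy
    rw [← hcl, Subgroup.closure_le]
    rintro x ⟨S, hx⟩
    exact hT S hx
  obtain ⟨g, hg⟩ := exists_of_dvd hr
  refine le_trans (range_le_of_normal ι U g ?_ ?_) hUT
  · intro e
    rw [e, orderOf_one] at hg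
    exact (Fact.out : r.Prime).ne_one hg.symm
  · have hp : IsPGroup r (zpowers (ι g)) := IsPGroup.of_card (n := 1) (by
      rw [Nat.card_zpowers, orderOf_injective ι hι, hg, pow_one])
    obtain ⟨S, hS⟩ := hp.exists_le_sylow
    exact Subgroup.subset_normalClosure ⟨S, hS (mem_zpowers _)⟩

variable (hι : Function.Injective ι) (hidx : ι.range.index ∣ 2)
include hι hidx

theorem card_dvd : Nat.card X ∣ 2 * 2448 := by
  have h := ι.range.card_mul_index
  rw [← Nat.card_congr (MonoidHom.ofInjective hι).toEquiv, card_P17] at h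
  rw [← h, mul_comm 2 2448]
  exact Nat.mul_dvd_mul_left _ hidx

theorem range_normal : ι.range.Normal := by
  rcases (Nat.dvd_prime Nat.prime_two).1 hidx with h | h
  · rw [Subgroup.index_eq_one.1 h]; infer_instance
  · exact Subgroup.normal_of_index_eq_two h

/-- The trace of a Sylow normaliser on `PSL₂(17)`. -/
theorem exists_index (H : Subgroup X) :
    ∃ m, (∃ K : Subgroup P17, K.index = m) ∧ (H.index = m ∨ H.index = 2 * m) := by
  refine ⟨(H.comap ι).index, ⟨_, rfl⟩, ?_⟩
  haveI := range_normal ι hι hidx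
  rw [Subgroup.index_comap]
  have h1 := (inf_le_left : H ⊓ ι.range ≤ H)
  have e1 := Subgroup.relIndex_mul_index h1
  have e2 := Subgroup.relIndex_mul_index (inf_le_right : H ⊓ ι.range ≤ ι.range)
  rw [Subgroup.inf_relIndex_left] at e1
  rw [Subgroup.inf_relIndex_right] at e2
  have hd : ι.range.relIndex H ∣ ι.range.index := Subgroup.relIndex_dvd_index_of_normal _ _
  rcases (Nat.dvd_prime Nat.prime_two).1 hidx with h | h
  · left
    rw [h] at hd e2
    rw [Nat.dvd_one.1 hd, one_mul] at e1
    omega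
  · rw [h] at hd e2
    rcases (Nat.dvd_prime Nat.prime_two).1 hd with h2 | h2 <;> rw [h2] at e1
    · right; omega
    · left; omega

theorem not_normal_sylow {r : ℕ} [Fact r.Prime] (hr : r ∣ 2448)
    (S : Sylow r X) : Nat.card (Sylow r X) ≠ 1 := by
  intro h1
  haveI : Subsingleton (Sylow r X) := (Nat.card_eq_one_iff_unique.1 h1).1
  have hle := range_le_iSup ι hι hr (S : Subgroup X) (fun T => by rw [Subsingleton.elim T S])
  have h2 := Subgroup.card_dvd_of_le hle
  rw [← Nat.card_congr (MonoidHom.ofInjective hι).toEquiv, card_P17] at h2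
  obtain ⟨k, hk⟩ := IsPGroup.iff_card.1 S.2
  rw [hk] at h2
  have e1 : 17 = r := (Nat.prime_dvd_prime_iff_eq (by norm_num) Fact.out).1
    ((by norm_num : Nat.Prime 17).dvd_of_dvd_pow (dvd_trans (by norm_num : 17 ∣ 2448) h2))
  have e2 : 3 = r := (Nat.prime_dvd_prime_iff_eq Nat.prime_three Fact.out).1
    (Nat.prime_three.dvd_of_dvd_pow (dvd_trans (by norm_num : 3 ∣ 2448) h2))
  omega

theorem sylow_three (h : Nat.card (Sylow 3 X) ∣ 136) : Nat.card (Sylow 3 X) = 136 := by
  haveI : Fact (Nat.Prime 3) := ⟨Nat.prime_three⟩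
  obtain ⟨S⟩ : Nonempty (Sylow 3 X) := inferInstance
  have hne := not_normal_sylow ι hι hidx (r := 3) (by norm_num) S
  have hmod := card_sylow_modEq_one 3 X
  obtain ⟨m, ⟨K, hK⟩, hm⟩ := exists_index ι hι hidx (Subgroup.normalizer (S : Set X))
  rw [← S.card_eq_index_normalizer] at hm
  generalize Nat.card (Sylow 3 X) = n at *
  have hbad := index_not_mem K
  rw [hK] at hbad
  simp only [Finset.mem_insert, Finset.mem_singleton, not_or] at hbad
  have hmem : n ∈ Nat.divisors 136 := Nat.mem_divisors.2 ⟨h, by norm_num⟩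
  rw [show Nat.divisors 136 = {1, 2, 4, 8, 17, 34, 68, 136} from by decide] at hmem
  simp only [Finset.mem_insert, Finset.mem_singleton] at hmem
  unfold Nat.ModEq at hmod
  omega

theorem sylow_two (h : Nat.card (Sylow 2 X) ∣ 153) : Nat.card (Sylow 2 X) = 153 := by
  haveI : Fact (Nat.Prime 2) := ⟨Nat.prime_two⟩
  obtain ⟨S⟩ : Nonempty (Sylow 2 X) := inferInstance
  have hne := not_normal_sylow ι hι hidx (r := 2) (by norm_num) S
  obtain ⟨m, ⟨K, hK⟩, hm⟩ := exists_index ι hι hidx (Subgroup.normalizer (S : Set X))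
  rw [← S.card_eq_index_normalizer] at hm
  generalize Nat.card (Sylow 2 X) = n at *
  have hbad := index_not_mem K
  rw [hK] at hbad
  simp only [Finset.mem_insert, Finset.mem_singleton, not_or] at hbad
  have hmem : n ∈ Nat.divisors 153 := Nat.mem_divisors.2 ⟨h, by norm_num⟩
  rw [show Nat.divisors 153 = {1, 3, 9, 17, 51, 153} from by decide] at hmem
  simp only [Finset.mem_insert, Finset.mem_singleton] at hmem
  omega

/-- A Sylow 2-subgroup and the image generate. -/
theorem sylow_two_sup [Fact (Nat.Prime 2)] (S : Sylow 2 X) : ι.range ⊔ (S : Subgroup X) = ⊤ := by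
  have h1 := Subgroup.index_dvd_of_le (le_sup_right : (S : Subgroup X) ≤ ι.range ⊔ S)
  have h2 : (ι.range ⊔ (S : Subgroup X)).index ∣ 2 :=
    (Subgroup.index_dvd_of_le le_sup_left).trans hidx
  rcases (Nat.dvd_prime Nat.prime_two).1 h2 with e | e
  · exact Subgroup.index_eq_one.1 e
  · rw [e] at h1
    exact absurd h1 S.not_dvd_index

end Over

end CfsgLib.SylowNumber17
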