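import Cfsg.Agent.SylowNumber.SeventeenImage

/-!
The group induced on exactly eighteen Sylow 17-subgroups is `PSL₂(17)` or `PGL₂(17)`.
-/

set_option autoImplicit false
set_option linter.style.haveILetI false
set_option linter.unusedSectionVars false

namespace CfsgLib.SylowNumber17

open Subgroup MulAction Pointwise

universe u

variable {α : Type u} [Fintype α]

/-- A point stabiliser that normalises a cyclic group regular on the other points is small. -/
theorem card_stab_le (X : Subgroup (Equiv.Perm α)) (a b : α) (x : X) (hab : b ≠ a)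
    (hx : orderOf x = 17) (hα : Fintype.card α = 18) (ha : x • a = a) (hb : x • b ≠ b)
    (hnorm : ∀ y : X, y • a = a → y * x * y⁻¹ ∈ zpowers x) :
    Nat.card (stabilizer X a) ≤ 17 * 16 := by
  classical
  haveI : Fintype X := Fintype.ofFinite _
  have horb : orbit (zpowers x) b = ({a}ᶜ : Set α) := by
    have hd : (orbit (zpowers x) b).ncard ∣ 17 := by
      rw [← MulAction.index_stabilizer, ← hx, ← Nat.card_zpowers]
      exact Subgroup.index_dvd_card _
    have hne : (orbit (zpowers x) b).ncard ≠ 1 := fun h => by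
      obtain ⟨c, hc⟩ := Set.ncard_eq_one.1 h
      have h1 : b ∈ orbit (zpowers x) b := mem_orbit_self b
      have h2 : x • b ∈ orbit (zpowers x) b := mem_orbit b (⟨x, mem_zpowers x⟩ : zpowers x)
      rw [hc, Set.mem_singleton_iff] at h1 h2
      exact hb (h2.trans h1.symm)
    have h17 := ((Nat.dvd_prime (by norm_num)).1 hd).resolve_left hne
    refine Set.eq_of_subset_of_ncard_le ?_ ?_ (Set.toFinite _)
    · rintro c ⟨⟨y, hy⟩, rfl⟩ (hc : y • b = a)
      obtain ⟨k, rfl⟩ := mem_zpowers_iff.1 hy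
      have hfix : x ^ k • a = a :=
        (mem_stabilizer_iff.1 (zpow_mem (mem_stabilizer_iff.2 ha : x ∈ stabilizer X a) k))
      exact hab (MulAction.injective (x ^ k) (hc.trans hfix.symm))
    · rw [Set.ncard_compl, Set.ncard_singleton, Nat.card_eq_fintype_card, hα, h17]
  have hx1 : x ≠ 1 := fun e => by rw [e, orderOf_one] at hx; norm_num at hx
  let F : stabilizer X a → ({a}ᶜ : Set α) × ({1}ᶜ : Set (zpowers x)) := fun y =>
    (⟨(y : X) • b, fun h => hab (MulAction.injective (y : X)
        ((Set.mem_singleton_iff.1 h).trans (mem_stabilizer_iff.1 y.2).symm))⟩,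
      ⟨⟨y * x * (y : X)⁻¹, hnorm y (mem_stabilizer_iff.1 y.2)⟩, fun h => hx1
        (conj_eq_one_iff.1 (congrArg Subtype.val (Set.mem_singleton_iff.1 h)))⟩)
  have hF : Function.Injective F := by
    intro y y' h
    have h1 : (y : X) • b = (y' : X) • b :=
      congrArg (fun t : ({a}ᶜ : Set α) × ({1}ᶜ : Set (zpowers x)) => (t.1 : α)) h
    have h2 : (y : X) * x * (y : X)⁻¹ = (y' : X) * x * (y' : X)⁻¹ :=
      congrArg (fun t : ({a}ᶜ : Set α) × ({1}ᶜ : Set (zpowers x)) => ((t.2 : zpowers x) : X)) h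
    set w : X := (y' : X)⁻¹ * y with hw
    have hc : Commute w x := by
      have := congrArg (fun t => (y' : X)⁻¹ * t * y) h2
      simpa [hw, mul_assoc, commute_iff_eq] using this
    have hwb : w • b = b := by rw [hw, mul_smul, h1, inv_smul_smul]
    have hwa : w • a = a := mem_stabilizer_iff.1 (mul_mem (inv_mem y'.2) y.2)
    have hfix : ∀ c, w • c = c := fun c => by
      by_cases hca : c = a
      · rw [hca, hwa]
      · obtain ⟨⟨z, hz⟩, hzc⟩ := (horb.symm ▸ (hca : c ∈ ({a}ᶜ : Set α)) : c ∈ orbit (zpowers x) b)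
        obtain ⟨k, rfl⟩ := mem_zpowers_iff.1 hz
        subst hzc
        show w • x ^ k • b = x ^ k • b
        rw [← mul_smul, (hc.zpow_right k).eq, mul_smul, hwb]
    have : w = 1 := Subtype.ext (Equiv.ext hfix)
    exact Subtype.ext (inv_mul_eq_one.1 this).symm
  refine (Nat.card_le_card_of_injective F hF).trans ?_
  rw [Nat.card_prod, Nat.card_coe_set_eq, Nat.card_coe_set_eq, Set.ncard_compl, Set.ncard_compl,
    Set.ncard_singleton, Set.ncard_singleton, Nat.card_zpowers, hx,
    Nat.card_eq_fintype_card, hα]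

variable {G : Type u} [Group G] [Finite G]

/-- The action on the Sylow 17-subgroups, onto its image. -/
noncomputable def imageHom (G : Type u) [Group G] :
    G →* (MulAction.toPermHom G (Sylow 17 G)).range :=
  (MulAction.toPermHom G (Sylow 17 G)).rangeRestrict

theorem imageHom_surjective : Function.Surjective (imageHom G) :=
  MonoidHom.rangeRestrict_surjective _

theorem mem_ker_imageHom {g : G} (h : g ∈ (imageHom G).ker) (P : Sylow 17 G) : g • P = P := by
  have h' : MulAction.toPermHom G (Sylow 17 G) g = 1 := congrArg Subtype.val (MonoidHom.mem_ker.1 h)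
  exact Equiv.ext_iff.1 h' P

theorem classify_image (h : Nat.card (Sylow 17 G) = 18) :
    (Nonempty ((MulAction.toPermHom G (Sylow 17 G)).range ≃* P17) ∨
      Nonempty ((MulAction.toPermHom G (Sylow 17 G)).range ≃*
        Matrix.ProjGenLinGroup (Fin 2) (ZMod 17))) ∧
    ∃ ι : P17 →* (MulAction.toPermHom G (Sylow 17 G)).range,
      Function.Injective ι ∧ ι.range.index ∣ 2 := by
  classical
  haveI : Fintype (Sylow 17 G) := Fintype.ofFinite _
  have hα : Fintype.card (Sylow 17 G) = 18 := by rw [← Nat.card_eq_fintype_card]; exact h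
  set X := (MulAction.toPermHom G (Sylow 17 G)).range with hX
  obtain ⟨P⟩ : Nonempty (Sylow 17 G) := inferInstance
  obtain ⟨Q, hQP⟩ := Fintype.exists_ne_of_one_lt_card (by omega : 1 < Fintype.card (Sylow 17 G)) P
  obtain ⟨g, hgP, hgQ⟩ : ∃ g ∈ (P : Subgroup G), g • Q ≠ Q := by
    by_contra hcon
    push Not at hcon
    have hle : (P : Subgroup G) ≤ Subgroup.normalizer (Q : Set G) := fun g hg =>
      Sylow.smul_eq_iff_mem_normalizer.1 (hcon g hg)
    have h1 := P.2.inf_normalizer_sylow Q
    rw [inf_eq_left.2 hle] at h1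
    exact hQP (Sylow.ext (P.3 Q.2 (h1.le.trans inf_le_right)))
  have htrans : IsPretransitive X (Sylow 17 G) := ⟨fun a b => by
    obtain ⟨c, hc⟩ := MulAction.exists_smul_eq G a b
    exact ⟨imageHom G c, hc⟩⟩
  haveI := htrans
  have hXd : Nat.card X ∣ Nat.factorial 18 := by
    have h2 := Subgroup.card_subgroup_dvd_card X
    rw [Nat.card_perm, h] at h2
    exact h2
  set π : Subgroup X := (P : Subgroup G).map (imageHom G) with hπ
  set x : X := imageHom G g with hxdef
  have hxπ : x ∈ π := Subgroup.mem_map_of_mem _ hgP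
  have hx1 : x ≠ 1 := fun e => hgQ (mem_ker_imageHom (MonoidHom.mem_ker.2 e) Q)
  have hπc : Nat.card π = 17 := by
    obtain ⟨k, hk⟩ := IsPGroup.iff_card.1 (P.2.map (imageHom G))
    rw [hk]
    rcases Nat.lt_or_ge k 2 with hk2 | hk2
    · interval_cases k
      · rw [pow_zero] at hk
        rw [hπ, Subgroup.card_eq_one.1 hk, Subgroup.mem_bot] at hxπ
        exact absurd hxπ hx1
      · rfl
    · exfalso
      have hd := ((Nat.pow_dvd_pow 17 hk2).trans (hk ▸ Subgroup.card_subgroup_dvd_card π)).trans hXd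
      norm_num [Nat.factorial] at hd
  have hzx : zpowers x = π := by
    have hle : zpowers x ≤ π := zpowers_le.2 hxπ
    refine Subgroup.eq_of_le_of_card_ge hle ?_
    have hd := Subgroup.card_dvd_of_le hle
    rw [hπc] at hd
    rcases (Nat.dvd_prime (by norm_num)).1 hd with e | e
    · exact absurd (Subgroup.zpowers_eq_bot.1 (Subgroup.card_eq_one.1 e)) hx1
    · rw [hπc, e]
  have hox : orderOf x = 17 := by rw [← Nat.card_zpowers, hzx, hπc]
  have hxP : x • P = P := Sylow.smul_eq_iff_mem_normalizer.2 (Subgroup.le_normalizer hgP)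
  have hnorm : ∀ y : X, y • P = P → y * x * y⁻¹ ∈ zpowers x := by
    intro y hy
    obtain ⟨c, rfl⟩ := imageHom_surjective (G := G) y
    have hc : c ∈ Subgroup.normalizer ((P : Subgroup G) : Set G) :=
      Sylow.smul_eq_iff_mem_normalizer.1 hy
    rw [hzx, hxdef, ← map_inv, ← map_mul, ← map_mul]
    exact Subgroup.mem_map_of_mem _ ((Subgroup.mem_normalizer_iff.1 hc g).1 hgP)
  set Y := stabilizer X P with hY
  have hxY : x ∈ Y := hxP
  have hle := card_stab_le X P Q x hQP hox hα hxP hgQ hnorm
  have h17 := Subgroup.orderOf_dvd_natCard Y hxY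
  rw [hox] at h17
  obtain ⟨d, hd⟩ := h17
  have hXc : Nat.card X = (17 + 1) * 17 * d := by
    have h2 := Y.card_mul_index
    rw [MulAction.index_stabilizer, orbit_eq_univ, Set.ncard_univ, h, hd] at h2
    rw [← h2]; ring
  have S : CfsgLib.PrimeAddOne.Small X 17 d :=
    ⟨Fact.out, hα, htrans, hXc, by rw [← hY] at hle; omega⟩
  have hidx : ∀ ι : P17 →* X, Function.Injective ι → ι.range.index * 2448 = Nat.card X := by
    intro ι hι
    have h2 := ι.range.card_mul_index
    rw [← Nat.card_congr (MonoidHom.ofInjective hι).toEquiv, card_P17] at h2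
    rw [← h2, mul_comm]
  rcases CfsgLib.PrimeAddOne.classify S with ⟨hdd, ⟨e⟩⟩ | ⟨hdd, ⟨e⟩⟩ | ⟨q, -, hq, -⟩
  · obtain ⟨ι, hι⟩ : ∃ ι : P17 →* X, Function.Injective ι :=
      ⟨e.symm.toMonoidHom.comp Matrix.ProjectiveSpecialLinearGroup.toPGL,
        e.symm.injective.comp Matrix.ProjectiveSpecialLinearGroup.toPGL_injective⟩
    have h2 := hidx ι hι
    rw [hXc] at h2
    refine ⟨Or.inr ⟨e⟩, ι, hι, ?_⟩
    rw [show ι.range.index = 2 by omega]
  · obtain ⟨ι, hι⟩ : ∃ ι : P17 →* X, Function.Injective ι := ⟨e.symm.toMonoidHom, e.symm.injective⟩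
    have h2 := hidx ι hι
    rw [hXc] at h2
    refine ⟨Or.inl ⟨e⟩, ι, hι, ?_⟩
    rw [show ι.range.index = 1 by omega]
    exact one_dvd 2
  · exfalso
    rcases le_or_gt q 4 with h4 | h4
    · interval_cases q <;> norm_num at hq
    · have := Nat.pow_le_pow_right (n := 2) (by norm_num) h4
      omega

end CfsgLib.SylowNumber17
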