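import Mathlib.GroupTheory.Perm.Cycle.Type
import Mathlib.GroupTheory.IndexNormal
import Mathlib.Tactic.NormNum.Prime
import Cfsg.Agent.SylowNumber.Basic

/-!
Groups with 22 Sylow 3-subgroups: in the faithful case a Sylow 3-subgroup has order 3.
-/

set_option autoImplicit false
set_option linter.style.haveILetI false
set_option linter.unusedSectionVars false

namespace CfsgLib.SylowNumber22

open Subgroup MulAction Pointwise

instance fact_prime_three : Fact (Nat.Prime 3) := ⟨Nat.prime_three⟩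

/-- A set that is a union of orbits of size `n` has cardinality divisible by `n`. -/
theorem dvd_ncard_of_orbits {H α : Type*} [Group H] [MulAction H α] [Finite α] (s : Set α) (n : ℕ)
    (h : ∀ a ∈ s, orbit H a ⊆ s ∧ (orbit H a).ncard = n) : n ∣ s.ncard := by
  classical
  haveI := Fintype.ofFinite α
  rw [Set.ncard_eq_toFinset_card' s, Finset.card_eq_sum_card_image (fun a => orbit H a) s.toFinset]
  refine Finset.dvd_sum fun o ho => ?_
  obtain ⟨a, ha, rfl⟩ := Finset.mem_image.1 ho
  have ha' : a ∈ s := Set.mem_toFinset.1 ha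
  rw [← (h a ha').2, ← Set.ncard_coe_finset]
  refine (congrArg Set.ncard ?_).dvd
  ext b
  simp only [Finset.coe_filter, Set.mem_toFinset]
  refine ⟨fun hb => ⟨(h a ha').1 hb, orbit_eq_iff.2 hb⟩, fun hb => ?_⟩
  exact orbit_eq_iff.1 hb.2

variable {X : Type*} [Group X] [Finite X]

/-- Two Sylow 3-subgroups meeting in a subgroup of index 3. -/
def Near (P Q : Sylow 3 X) : Prop := Q ≠ P ∧ (Q : Subgroup X).relIndex (P : Subgroup X) = 3

theorem card_inf_mul (P Q : Sylow 3 X) :
    Nat.card ((P : Subgroup X) ⊓ Q : Subgroup X) * (Q : Subgroup X).relIndex (P : Subgroup X) =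
      Nat.card P := by
  have h1 := Subgroup.relIndex_mul_relIndex ⊥ ((P : Subgroup X) ⊓ Q) P bot_le inf_le_left
  rwa [Subgroup.relIndex_bot_left, Subgroup.relIndex_bot_left, Subgroup.inf_relIndex_left] at h1

theorem card_sylow_eq (P Q : Sylow 3 X) : Nat.card P = Nat.card Q :=
  Nat.card_congr (P.equiv Q).toEquiv

theorem stab_eq (P Q : Sylow 3 X) :
    stabilizer (P : Subgroup X) Q = (Q : Subgroup X).subgroupOf (P : Subgroup X) := by
  ext x
  rw [mem_stabilizer_iff, Subgroup.smul_def, Sylow.smul_eq_iff_mem_normalizer, mem_subgroupOf]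
  exact ⟨fun hx => ((P.2.inf_normalizer_sylow Q).le ⟨x.2, hx⟩).2, fun hx => le_normalizer hx⟩

theorem orbit_ncard_eq (P Q : Sylow 3 X) :
    (orbit (P : Subgroup X) Q).ncard = (Q : Subgroup X).relIndex (P : Subgroup X) := by
  rw [Subgroup.relIndex, ← stab_eq, MulAction.index_stabilizer]

theorem not_mem_orbit {P Q : Sylow 3 X} (h : Q ≠ P) : P ∉ orbit (P : Subgroup X) Q := by
  rintro ⟨x, hx⟩
  apply h
  have hx' : (x : X) • Q = P := hx
  rw [← inv_smul_smul (x : X) Q, hx']
  exact Sylow.smul_eq_iff_mem_normalizer.2 (inv_mem (le_normalizer x.2))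

theorem relIndex_ne_one {P Q : Sylow 3 X} (h : Q ≠ P) :
    (Q : Subgroup X).relIndex (P : Subgroup X) ≠ 1 := fun e =>
  h (Sylow.ext (P.3 Q.2 (Subgroup.relIndex_eq_one.1 e)))

theorem exists_pow_relIndex (P Q : Sylow 3 X) :
    ∃ k, (Q : Subgroup X).relIndex (P : Subgroup X) = 3 ^ k :=
  P.2.index ((Q : Subgroup X).subgroupOf (P : Subgroup X))

theorem relIndex_cases (hn : Nat.card (Sylow 3 X) = 22) {P Q : Sylow 3 X} (h : Q ≠ P) :
    (Q : Subgroup X).relIndex (P : Subgroup X) = 3 ∨ (Q : Subgroup X).relIndex (P : Subgroup X) = 9 := by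
  have hle : (orbit (P : Subgroup X) Q).ncard ≤ 21 := by
    have h2 : orbit (P : Subgroup X) Q ⊆ ({P} : Set (Sylow 3 X))ᶜ :=
      fun R hR e => not_mem_orbit h (e ▸ hR)
    refine le_trans (Set.ncard_le_ncard h2 (Set.toFinite _)) ?_
    rw [Set.ncard_compl, Set.ncard_singleton, hn]
  rw [orbit_ncard_eq] at hle
  obtain ⟨k, hk⟩ := exists_pow_relIndex P Q
  rcases k with _ | _ | _ | k
  · exact absurd (by simpa using hk) (relIndex_ne_one h)
  · exact Or.inl (by simpa using hk)
  · exact Or.inr (by simpa using hk)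
  · exfalso
    have : 3 ^ 3 ≤ 3 ^ (k + 3) := Nat.pow_le_pow_right (by norm_num) (by omega)
    rw [show k + 1 + 1 + 1 = k + 3 by omega] at hk
    omega

theorem near_smul (g : X) {P Q : Sylow 3 X} (h : Near P Q) : Near (g • P) (g • Q) := by
  refine ⟨fun e => h.1 (smul_left_cancel g e), ?_⟩
  have h1 := card_inf_mul P Q
  have h2 := card_inf_mul (g • P) (g • Q)
  have e1 : Nat.card ((((g • P : Sylow 3 X) : Subgroup X) ⊓ (g • Q : Sylow 3 X) : Subgroup X)) =
      Nat.card ((P : Subgroup X) ⊓ Q : Subgroup X) := by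
    rw [Sylow.coe_subgroup_smul, Sylow.coe_subgroup_smul, ← Subgroup.smul_inf]
    exact Nat.card_congr (Subgroup.equivSMul (MulAut.conj g) _).toEquiv.symm
  rw [e1, ← card_sylow_eq P, ← h1, h.2] at h2
  exact Nat.eq_of_mul_eq_mul_left Nat.card_pos h2

theorem near_symm {P Q : Sylow 3 X} (h : Near P Q) : Near Q P := by
  refine ⟨h.1.symm, ?_⟩
  have h1 := card_inf_mul P Q
  have h2 := card_inf_mul Q P
  rw [inf_comm, ← card_sylow_eq P Q, ← h1, h.2] at h2
  exact Nat.eq_of_mul_eq_mul_left Nat.card_pos h2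

/-- The Sylow subgroups through the intersection of `P` and `Q`. -/
def line (P Q : Sylow 3 X) : Set (Sylow 3 X) := {R | (P : Subgroup X) ⊓ Q ≤ R}

theorem inf_eq_of_line {P Q R S : Sylow 3 X} (h : Near P Q) (hRS : S ≠ R) (hR : R ∈ line P Q)
    (hS : S ∈ line P Q) : (R : Subgroup X) ⊓ S = (P : Subgroup X) ⊓ Q ∧ Near R S := by
  have h1 := card_inf_mul P Q
  have h2 := card_inf_mul R S
  obtain ⟨k, hk⟩ := exists_pow_relIndex R S
  rw [h.2] at h1
  rw [hk, ← card_sylow_eq P R, ← h1] at h2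
  have hle : Nat.card ((P : Subgroup X) ⊓ Q : Subgroup X) ≤
      Nat.card ((R : Subgroup X) ⊓ S : Subgroup X) := Subgroup.card_le_of_le (le_inf hR hS)
  rcases k with _ | _ | k
  · exact absurd (by simpa using hk) (relIndex_ne_one hRS)
  · refine ⟨(Subgroup.eq_of_le_of_card_ge (le_inf hR hS) ?_).symm, hRS, by simpa using hk⟩
    rw [show (3 : ℕ) ^ (0 + 1) = 3 from rfl] at h2
    omega
  · exfalso
    have h9 : 9 ≤ 3 ^ (k + 1 + 1) :=
      le_trans (by norm_num) (Nat.pow_le_pow_right (by norm_num : 0 < 3) (show 2 ≤ k + 1 + 1 by omega))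
    have hpos : 0 < Nat.card ((P : Subgroup X) ⊓ Q : Subgroup X) := Nat.card_pos
    nlinarith

theorem line_eq_of_mem {P Q R S : Sylow 3 X} (h : Near P Q) (hRS : S ≠ R) (hR : R ∈ line P Q)
    (hS : S ∈ line P Q) : line R S = line P Q := by
  ext T
  simp only [line, Set.mem_ofPred_eq, (inf_eq_of_line h hRS hR hS).1]

theorem left_mem_line (P Q : Sylow 3 X) : P ∈ line P Q :=
  show (P : Subgroup X) ⊓ Q ≤ P from inf_le_left

theorem right_mem_line (P Q : Sylow 3 X) : Q ∈ line P Q :=
  show (P : Subgroup X) ⊓ Q ≤ Q from inf_le_right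

theorem inf_normal_in {P Q : Sylow 3 X} (h : Near P Q) :
    (P : Subgroup X) ≤ Subgroup.normalizer (((P : Subgroup X) ⊓ Q : Subgroup X) : Set X) := by
  have h1 : ((Q : Subgroup X).subgroupOf (P : Subgroup X)).index = 3 := h.2
  haveI : ((Q : Subgroup X).subgroupOf (P : Subgroup X)).Normal := by
    refine Subgroup.normal_of_index_eq_minFac_card ?_
    obtain ⟨j, hj⟩ := IsPGroup.iff_card.1 P.2
    rcases j with _ | j
    · have := h1 ▸ ((Q : Subgroup X).subgroupOf (P : Subgroup X)).index_dvd_card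
      rw [hj] at this; norm_num at this
    · rw [h1, hj, Nat.pow_minFac (by omega), (Fact.out : Nat.Prime 3).minFac_eq]
  exact (Subgroup.normal_subgroupOf_iff_le_normalizer (inf_le_left : (P : Subgroup X) ⊓ Q ≤ P)).1
    (by rwa [Subgroup.inf_subgroupOf_left])

theorem smul_mem_line {P Q R : Sylow 3 X} (h : Near P Q) {u : X} (hu : u ∈ (P : Subgroup X))
    (hR : R ∈ line P Q) : u • R ∈ line P Q := by
  intro d hd
  rw [Sylow.coe_subgroup_smul, Subgroup.mem_pointwise_smul_iff_inv_smul_mem, ← map_inv,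
    MulAut.smul_def, MulAut.conj_apply, inv_inv]
  exact hR ((Subgroup.mem_normalizer_iff''.1 (inf_normal_in h hu) d).1 hd)

/-- No point outside a line is adjacent to two of its points. -/
theorem line_disjoint {P Q A B R : Sylow 3 X} (h : Near P Q) (hA : A ∈ line P Q) (hB : B ∈ line P Q)
    (hAB : B ≠ A) (hR : R ∉ line P Q) (h1 : Near A R) (h2 : Near B R) : False := by
  have hD := (inf_eq_of_line h hAB hA hB).1
  obtain ⟨d, hd, hdR⟩ : ∃ d ∈ (A : Subgroup X) ⊓ B, d ∉ (R : Subgroup X) := by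
    by_contra hno
    push Not at hno
    exact hR fun x hx => hno x (hD.symm ▸ hx)
  have hne : d • R ≠ R := fun e => hdR
    ((A.2.inf_normalizer_sylow R).le ⟨hd.1, Sylow.smul_eq_iff_mem_normalizer.1 e⟩).2
  have e1 := line_eq_of_mem h1 hne (right_mem_line A R)
    (smul_mem_line h1 hd.1 (right_mem_line A R))
  have e2 := line_eq_of_mem h2 hne (right_mem_line B R)
    (smul_mem_line h2 hd.2 (right_mem_line B R))
  have hBA : B ∈ line A R := by rw [← e1, e2]; exact left_mem_line B R
  have e3 := line_eq_of_mem h1 hAB (left_mem_line A R) hBA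
  rw [line_eq_of_mem h hAB hA hB] at e3
  exact hR (e3 ▸ right_mem_line A R)

variable (hn : Nat.card (Sylow 3 X) = 22)
include hn

theorem nearSet_mod (P : Sylow 3 X) :
    ({Q | Near P Q} : Set (Sylow 3 X)).ncard = 3 ∨ ({Q | Near P Q} : Set (Sylow 3 X)).ncard = 12 ∨
      ({Q | Near P Q} : Set (Sylow 3 X)).ncard = 21 := by
  classical
  set s : Set (Sylow 3 X) := {Q | Near P Q} with hs
  set t : Set (Sylow 3 X) := {Q | Q ≠ P ∧ (Q : Subgroup X).relIndex (P : Subgroup X) = 9} with ht
  have hcl : ∀ {n : ℕ} {Q R : Sylow 3 X}, Q ≠ P → (Q : Subgroup X).relIndex (P : Subgroup X) = n →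
      R ∈ orbit (P : Subgroup X) Q → R ≠ P ∧ (R : Subgroup X).relIndex (P : Subgroup X) = n := by
    intro n Q R hQ hQn hR
    exact ⟨fun e => not_mem_orbit hQ (e ▸ hR), by
      rw [← orbit_ncard_eq, orbit_eq_iff.2 hR, orbit_ncard_eq, hQn]⟩
  have d3 : 3 ∣ s.ncard := dvd_ncard_of_orbits (H := (P : Subgroup X)) s 3 fun Q hQ =>
    ⟨fun R hR => hcl hQ.1 hQ.2 hR, (orbit_ncard_eq P Q).trans hQ.2⟩
  have d9 : 9 ∣ t.ncard := dvd_ncard_of_orbits (H := (P : Subgroup X)) t 9 fun Q hQ =>
    ⟨fun R hR => hcl hQ.1 hQ.2 hR, (orbit_ncard_eq P Q).trans hQ.2⟩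
  have hu : s ∪ t = ({P} : Set (Sylow 3 X))ᶜ := by
    ext Q
    constructor
    · rintro (hQ | hQ) <;> exact hQ.1
    · intro hQ
      rcases relIndex_cases hn hQ with h3 | h9
      · exact Or.inl ⟨hQ, h3⟩
      · exact Or.inr ⟨hQ, h9⟩
  have hd : Disjoint s t := Set.disjoint_left.2 fun Q h1 h2 => by
    have := h1.2.symm.trans h2.2
    norm_num at this
  have hsum := Set.ncard_union_eq hd (Set.toFinite _) (Set.toFinite _)
  rw [hu, Set.ncard_compl, Set.ncard_singleton, hn] at hsum
  obtain ⟨a, ha⟩ := d3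
  obtain ⟨b, hb⟩ := d9
  omega

theorem nearSet_const (P P' : Sylow 3 X) :
    ({Q | Near P Q} : Set (Sylow 3 X)).ncard = ({Q | Near P' Q} : Set (Sylow 3 X)).ncard := by
  obtain ⟨g, rfl⟩ := MulAction.exists_smul_eq X P P'
  rw [show ({Q | Near (g • P) Q} : Set (Sylow 3 X)) = (g • ·) '' {Q | Near P Q} from ?_,
    Set.ncard_image_of_injective _ (MulAction.injective g)]
  ext Q
  constructor
  · exact fun hQ => ⟨g⁻¹ • Q, by simpa using near_smul g⁻¹ hQ, smul_inv_smul g Q⟩
  · rintro ⟨R, hR, rfl⟩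
    exact near_smul g hR

theorem line_eq_insert {P Q : Sylow 3 X} (h : Near P Q) : line P Q = insert P {R | Near P R} := by
  classical
  haveI := Fintype.ofFinite (Sylow 3 X)
  set L := line P Q with hL
  set g := ({R | Near P R} : Set (Sylow 3 X)).ncard with hg
  have hg' : g = 3 ∨ g = 12 ∨ g = 21 := nearSet_mod hn P
  have hsub : ∀ A ∈ L, L ⊆ insert A {R | Near A R} := by
    intro A hA R hR
    by_cases e : R = A
    · exact Or.inl e
    · exact Or.inr (inf_eq_of_line h e hA hR).2
  have hins : ∀ A : Sylow 3 X, (insert A {R | Near A R}).ncard = g + 1 := fun A => by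
    rw [Set.ncard_insert_of_notMem (show A ∉ {R | Near A R} from fun hA => hA.1 rfl) (Set.toFinite _),
      ← nearSet_const hn P A]
  have hout : ∀ A ∈ L, ({R | Near A R} \ L : Set (Sylow 3 X)).ncard + L.ncard = g + 1 := by
    intro A hA
    rw [← hins A, ← Set.ncard_sdiff_add_ncard_of_subset (hsub A hA)]
    congr 2
    ext R
    constructor
    · exact fun hR => ⟨Or.inr hR.1, hR.2⟩
    · rintro ⟨rfl | hR, hRL⟩
      · exact absurd hA hRL
      · exact ⟨hR, hRL⟩
  -- `L \ {P}` consists of orbits of size three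
  have hm : 3 ∣ (L \ {P}).ncard := by
    refine dvd_ncard_of_orbits (H := (P : Subgroup X)) _ 3 fun R hR => ⟨?_, ?_⟩
    · rintro _ ⟨u, rfl⟩
      refine ⟨smul_mem_line h u.2 hR.1, fun e => not_mem_orbit (hR.2 : R ≠ P) ⟨u, ?_⟩⟩
      exact e
    · rw [orbit_ncard_eq]
      exact (inf_eq_of_line h hR.2 (left_mem_line P Q) hR.1).2.2
  have hm1 : (L \ {P}).ncard + 1 = L.ncard := Set.ncard_sdiff_singleton_add_one (left_mem_line P Q)
  have hm2 : 2 ≤ L.ncard := by
    have : ({P, Q} : Set (Sylow 3 X)) ⊆ L := by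
      rintro R (rfl | rfl)
      · exact left_mem_line _ _
      · exact right_mem_line _ _
    refine le_trans ?_ (Set.ncard_le_ncard this (Set.toFinite _))
    rw [Set.ncard_pair h.1.symm]
  -- counting the points outside
  have hcount : L.ncard * ({R | Near P R} \ L : Set (Sylow 3 X)).ncard + L.ncard ≤ 22 := by
    have h0 := hout P (left_mem_line P Q)
    have hdis : (L.toFinset : Set (Sylow 3 X)).PairwiseDisjoint
        fun A => ({R | Near A R} \ L : Set (Sylow 3 X)).toFinset := by
      intro A hA B hB hAB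
      rw [Function.onFun, Finset.disjoint_left]
      intro R hR1 hR2
      rw [Set.mem_toFinset] at hR1 hR2
      exact line_disjoint h (Set.mem_toFinset.1 hA) (Set.mem_toFinset.1 hB) hAB.symm hR1.2 hR1.1 hR2.1
    have hc : ∀ A ∈ L.toFinset, (({R | Near A R} \ L : Set (Sylow 3 X)).toFinset).card =
        ({R | Near P R} \ L : Set (Sylow 3 X)).ncard := by
      intro A hA
      rw [← Set.ncard_eq_toFinset_card']
      have := hout A (Set.mem_toFinset.1 hA)
      omega
    have hle : (L.toFinset.biUnion fun A => ({R | Near A R} \ L : Set (Sylow 3 X)).toFinset) ⊆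
        Lᶜ.toFinset := by
      intro R hR
      obtain ⟨A, -, hR⟩ := Finset.mem_biUnion.1 hR
      exact Set.mem_toFinset.2 (Set.mem_toFinset.1 hR).2
    have := Finset.card_le_card hle
    rw [Finset.card_biUnion hdis, Finset.sum_congr rfl hc, Finset.sum_const, smul_eq_mul,
      ← Set.ncard_eq_toFinset_card', ← Set.ncard_eq_toFinset_card', Set.ncard_compl, hn] at this
    have hL22 : L.ncard ≤ 22 := hn ▸ Set.ncard_le_card L
    omega
  have h0 := hout P (left_mem_line P Q)
  obtain ⟨a, ha⟩ := hm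
  set k := ({R | Near P R} \ L : Set (Sylow 3 X)).ncard with hk
  have hk0 : k = 0 := by
    by_contra hne
    have hk3 : 3 ≤ k := by rcases hg' with e | e | e <;> omega
    have hm4 : L.ncard = 4 := by
      have : L.ncard * 3 ≤ L.ncard * k := Nat.mul_le_mul_left _ hk3
      omega
    rw [hm4] at hcount
    rcases hg' with e | e | e <;> omega
  refine Set.eq_of_subset_of_ncard_le (hsub P (left_mem_line P Q)) ?_ (Set.toFinite _)
  rw [hins P]
  omega

theorem nearSet_insert_eq {R S : Sylow 3 X} (h : Near S R) :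
    insert R {T | Near R T} = insert S {T | Near S T} := by
  rw [← line_eq_insert hn h, ← line_eq_insert hn (near_symm h)]
  simp only [line, inf_comm]

theorem nearSet_eq_all (P : Sylow 3 X) : ({Q | Near P Q} : Set (Sylow 3 X)).ncard = 21 := by
  classical
  haveI := Fintype.ofFinite (Sylow 3 X)
  let f : Sylow 3 X → Set (Sylow 3 X) := fun A => insert A {R | Near A R}
  have hf : ∀ A, (f A).ncard = ({Q | Near P Q} : Set (Sylow 3 X)).ncard + 1 := fun A => by
    rw [Set.ncard_insert_of_notMem (show A ∉ {R | Near A R} from fun hA => hA.1 rfl) (Set.toFinite _),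
      nearSet_const hn A P]
  have hdvd : ({Q | Near P Q} : Set (Sylow 3 X)).ncard + 1 ∣ 22 := by
    rw [← hn, Nat.card_eq_fintype_card, ← Finset.card_univ,
      Finset.card_eq_sum_card_image f Finset.univ]
    refine Finset.dvd_sum fun o ho => ?_
    obtain ⟨A, -, rfl⟩ := Finset.mem_image.1 ho
    rw [← hf A, ← Set.ncard_coe_finset]
    refine (congrArg Set.ncard ?_).dvd
    ext B
    simp only [Finset.coe_filter, Finset.mem_univ, true_and, Set.mem_ofPred_eq]
    constructor
    · intro hB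
      rcases hB with rfl | hB
      · rfl
      · exact nearSet_insert_eq hn hB
    · intro hB
      rw [← hB]
      exact Set.mem_insert B _
  rcases nearSet_mod hn P with e | e | e
  · rw [e] at hdvd; norm_num at hdvd
  · rw [e] at hdvd; norm_num at hdvd
  · exact e

/-- In the faithful case the Sylow 3-subgroups have order 3. -/
theorem card_sylow_three (hfaith : ∀ x : X, (∀ P : Sylow 3 X, x • P = P) → x = 1) (P : Sylow 3 X) :
    Nat.card P = 3 := by
  haveI : Nontrivial (Sylow 3 X) := Finite.one_lt_card_iff_nontrivial.1 (by omega)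
  obtain ⟨Q, hQ⟩ := exists_ne P
  have hall : ({Q | Near P Q} : Set (Sylow 3 X)) = ({P} : Set (Sylow 3 X))ᶜ := by
    refine Set.eq_of_subset_of_ncard_le (fun R hR => hR.1) ?_ (Set.toFinite _)
    rw [Set.ncard_compl, Set.ncard_singleton, hn, nearSet_eq_all hn P]
  have hnear : Near P Q := by
    have : Q ∈ ({Q | Near P Q} : Set (Sylow 3 X)) := hall ▸ (hQ : Q ∈ ({P} : Set (Sylow 3 X))ᶜ)
    exact this
  have hbot : (P : Subgroup X) ⊓ Q = ⊥ := by
    rw [eq_bot_iff]
    intro x hx
    refine Subgroup.mem_bot.2 (hfaith x fun S => Sylow.smul_eq_iff_mem_normalizer.2 (le_normalizer ?_))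
    have hS : S ∈ line P Q := by
      rw [line_eq_insert hn hnear, hall]
      by_cases e : S = P
      · exact Or.inl e
      · exact Or.inr e
    exact hS hx
  have := card_inf_mul P Q
  rw [hbot, Subgroup.card_bot, hnear.2] at this
  omega

end CfsgLib.SylowNumber22
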