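import Mathlib.GroupTheory.Transfer
import Mathlib.Combinatorics.Enumerative.DoubleCounting
import Cfsg.Agent.SylowNumber.TwentyTwoA
import Cfsg.Agent.SylowNumber.PermSeven

/-!
Groups with 22 Sylow 3-subgroups of order 3 do not exist.
-/

set_option autoImplicit false
set_option linter.style.haveILetI false
set_option linter.unusedSectionVars false

namespace CfsgLib.SylowNumber22

open Subgroup MulAction Pointwise

instance fact_prime_eleven : Fact (Nat.Prime 11) := ⟨by norm_num⟩

/-- An element of order prime to `p - 1` normalizing a subgroup of order `p` centralizes it. -/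
theorem mem_centralizer_of_normalizes {X : Type*} [Group X] {p q : ℕ} [Fact p.Prime] {R : Subgroup X}
    (hR : Nat.card R = p) (hq : q.Coprime (p - 1)) {g : X} (hg : g ^ q = 1)
    (hgR : g ∈ Subgroup.normalizer (R : Set X)) : g ∈ Subgroup.centralizer (R : Set X) := by
  haveI : IsCyclic R := isCyclic_of_prime_card hR
  haveI : Finite R := Nat.finite_of_card_ne_zero (hR ▸ (Fact.out : p.Prime).ne_zero)
  set f := R.normalizerMonoidHom
  have h1 : orderOf (f ⟨g, hgR⟩) ∣ q := orderOf_dvd_of_pow_eq_one (by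
    rw [← map_pow, show (⟨g, hgR⟩ : Subgroup.normalizer (R : Set X)) ^ q = 1 from Subtype.ext hg, map_one])
  have h2 : orderOf (f ⟨g, hgR⟩) ∣ p - 1 := by
    have := orderOf_dvd_natCard (f ⟨g, hgR⟩)
    rwa [‹IsCyclic R›.card_mulAut, hR, Nat.totient_prime Fact.out] at this
  have hone : f ⟨g, hgR⟩ = 1 := orderOf_eq_one_iff.1 (Nat.eq_one_of_dvd_coprimes hq h1 h2)
  have : (⟨g, hgR⟩ : Subgroup.normalizer (R : Set X)) ∈ f.ker := MonoidHom.mem_ker.2 hone
  rw [Subgroup.normalizerMonoidHom_ker, Subgroup.mem_subgroupOf] at this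
  exact this

variable {X : Type*} [Group X] [Finite X]
variable (hn : Nat.card (Sylow 3 X) = 22) (h3 : ∀ P : Sylow 3 X, Nat.card P = 3)
  (hfaith : ∀ x : X, (∀ P : Sylow 3 X, x • P = P) → x = 1)
include hn h3

theorem orbit_three {P Q : Sylow 3 X} (h : Q ≠ P) : (orbit (P : Subgroup X) Q).ncard = 3 := by
  rw [orbit_ncard_eq]
  rcases relIndex_cases hn h with e | e
  · exact e
  · have := Subgroup.relIndex_dvd_card (Q : Subgroup X) (P : Subgroup X)
    rw [e, h3 P] at this
    norm_num at this

theorem eq_one_of_fix_two {P Q : Sylow 3 X} (h : Q ≠ P) {x : X} (hx : x ∈ (P : Subgroup X))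
    (hxQ : x • Q = Q) : x = 1 := by
  have hxQ' : x ∈ (Q : Subgroup X) :=
    ((P.2.inf_normalizer_sylow Q).le ⟨hx, Sylow.smul_eq_iff_mem_normalizer.1 hxQ⟩).2
  have hbot : (P : Subgroup X) ⊓ Q = ⊥ := by
    refine Subgroup.eq_bot_of_card_eq _ ?_
    have := card_inf_mul P Q
    rw [← orbit_ncard_eq, orbit_three hn h3 h, h3 P] at this
    omega
  exact Subgroup.mem_bot.1 (hbot.le ⟨hx, hxQ'⟩)

theorem orderOf_mem {P : Sylow 3 X} {g : X} (hg : g ∈ (P : Subgroup X)) : g ^ 3 = 1 := by
  have h := congrArg Subtype.val (pow_card_eq_one' (x := (⟨g, hg⟩ : (P : Subgroup X))))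
  rwa [Subgroup.coe_pow, h3 P, Subgroup.coe_one] at h

theorem exists_sylow_of_order_three {g : X} (hg : g ^ 3 = 1) : ∃ P : Sylow 3 X, g ∈ (P : Subgroup X) := by
  have hp : IsPGroup 3 (Subgroup.zpowers g) :=
    IsPGroup.of_card_dvd_pow (n := 1)
      (by rw [Nat.card_zpowers, pow_one]; exact orderOf_dvd_of_pow_eq_one hg)
  obtain ⟨P, hP⟩ := hp.exists_le_sylow
  exact ⟨P, hP (Subgroup.mem_zpowers g)⟩

/-- An element of order 3 fixes exactly one point. -/
theorem fix_unique {g : X} (hg : g ^ 3 = 1) (hg1 : g ≠ 1) {Q R : Sylow 3 X} (hQ : g • Q = Q)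
    (hR : g • R = R) : Q = R := by
  obtain ⟨P, hP⟩ := exists_sylow_of_order_three hn h3 hg
  have key : ∀ S : Sylow 3 X, g • S = S → S = P := fun S hS => by
    by_contra hne
    exact hg1 (eq_one_of_fix_two hn h3 hne hP hS)
  rw [key Q hQ, key R hR]

theorem card_eq_mul (P : Sylow 3 X) :
    Nat.card (Subgroup.normalizer ((P : Subgroup X) : Set X)) * 22 = Nat.card X := by
  rw [← hn, P.card_eq_index_normalizer]
  exact Subgroup.card_mul_index _

theorem not_nine_dvd : ¬ 9 ∣ Nat.card X := by
  intro h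
  obtain ⟨P⟩ : Nonempty (Sylow 3 X) := inferInstance
  have h2 := P.pow_dvd_card_of_pow_dvd_card (n := 2) (by simpa using h)
  rw [h3 P] at h2
  norm_num at h2

include hfaith

/-- The bound on the centralizer of a Sylow subgroup. -/
theorem centralizer_card (P : Sylow 3 X) :
    ∃ c, Nat.card (Subgroup.centralizer ((P : Subgroup X) : Set X)) = 3 * c ∧ ¬ 3 ∣ c ∧
      (c ∣ 80 ∨ c ∣ 14) := by
  classical
  haveI : IsCyclic P := isCyclic_of_prime_card (h3 P)
  set C := Subgroup.centralizer ((P : Subgroup X) : Set X) with hC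
  have hPC : (P : Subgroup X) ≤ C := Subgroup.le_centralizer (P : Subgroup X)
  obtain ⟨c, hc⟩ : 3 ∣ Nat.card C := h3 P ▸ Subgroup.card_dvd_of_le hPC
  have hc3 : ¬ 3 ∣ c := fun h => not_nine_dvd hn h3 <|
    dvd_trans (show 9 ∣ Nat.card C by rw [hc]; obtain ⟨d, rfl⟩ := h; exact ⟨d, by ring⟩)
      (Subgroup.card_subgroup_dvd_card C)
  refine ⟨c, hc, hc3, ?_⟩
  have hCP : ∀ g ∈ C, g • P = P := fun g hg =>
    Sylow.smul_eq_iff_mem_normalizer.2 (Subgroup.centralizer_le_normalizer _ hg)
  -- the seven orbits of `P`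
  let O := {o : Set (Sylow 3 X) // ∃ Q, Q ≠ P ∧ o = orbit (P : Subgroup X) Q}
  have himg : ∀ g ∈ C, ∀ Q : Sylow 3 X,
      g • orbit (P : Subgroup X) Q = orbit (P : Subgroup X) (g • Q) := by
    intro g hg Q
    have hcomm : ∀ u : (P : Subgroup X), g • (u : X) • Q = (u : X) • g • Q := fun u => by
      rw [← mul_smul, ← mul_smul, Subgroup.mem_centralizer_iff.1 hg u u.2]
    ext R
    constructor
    · rintro ⟨_, ⟨u, rfl⟩, rfl⟩
      exact ⟨u, (hcomm u).symm⟩
    · rintro ⟨u, rfl⟩
      exact ⟨_, ⟨u, rfl⟩, hcomm u⟩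
  have hmem : ∀ g ∈ C, ∀ o : O, ∃ Q, Q ≠ P ∧ g • o.1 = orbit (P : Subgroup X) Q := by
    rintro g hg ⟨_, Q, hQ, rfl⟩
    exact ⟨g • Q, fun e => hQ (smul_left_cancel g (e.trans (hCP g hg).symm)), himg g hg Q⟩
  let ψ : C →* Equiv.Perm O :=
    { toFun := fun g =>
        { toFun := fun o => ⟨(g : X) • o.1, hmem g g.2 o⟩
          invFun := fun o => ⟨(g : X)⁻¹ • o.1, hmem _ (inv_mem g.2) o⟩
          left_inv := fun o => Subtype.ext (inv_smul_smul (g : X) o.1)
          right_inv := fun o => Subtype.ext (smul_inv_smul (g : X) o.1) }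
      map_one' := Equiv.ext fun o => Subtype.ext (one_smul X o.1)
      map_mul' := fun a b => Equiv.ext fun o => Subtype.ext (mul_smul (a : X) (b : X) o.1) }
  have hker : ψ.ker = (P : Subgroup X).subgroupOf C := by
    ext g
    rw [MonoidHom.mem_ker, Subgroup.mem_subgroupOf]
    constructor
    · intro hg
      have hz : ∀ Q : Sylow 3 X, Q ≠ P → ∃ u : (P : Subgroup X), (u : X) • Q = (g : X) • Q := by
        intro Q hQ
        have := congrArg Subtype.val (Equiv.ext_iff.1 hg ⟨_, Q, hQ, rfl⟩)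
        change (g : X) • orbit (P : Subgroup X) Q = orbit (P : Subgroup X) Q at this
        exact (Set.ext_iff.1 this _).1 (Set.smul_mem_smul_set (mem_orbit_self Q))
      have hpow : ∀ (Q : Sylow 3 X) (u : (P : Subgroup X)), (u : X) • Q = (g : X) • Q →
          ∀ i : ℕ, (g : X) ^ i • Q = (u : X) ^ i • Q := by
        intro Q u hu i
        induction i with
        | zero => simp
        | succ i ih =>
          rw [pow_succ, mul_smul, ← hu, ← mul_smul,
            ← Subgroup.mem_centralizer_iff.1 (pow_mem g.2 i) u u.2, mul_smul, ih, ← mul_smul,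
            ← pow_succ']
      have hg3 : (g : X) ^ 3 = 1 := by
        refine hfaith _ fun Q => ?_
        by_cases hQ : Q = P
        · rw [hQ]; exact hCP _ (pow_mem g.2 3)
        · obtain ⟨u, hu⟩ := hz Q hQ
          rw [hpow Q u hu, orderOf_mem hn h3 u.2, one_smul]
      have hsup : IsPGroup 3 ((Subgroup.zpowers (g : X)) ⊔ (P : Subgroup X) : Subgroup X) := by
        refine IsPGroup.to_sup_of_normal_right' ?_ P.2
          (Subgroup.zpowers_le.2 (Subgroup.centralizer_le_normalizer _ g.2))
        exact IsPGroup.of_card_dvd_pow (n := 1)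
          (by rw [Nat.card_zpowers, pow_one]; exact orderOf_dvd_of_pow_eq_one hg3)
      exact P.3 hsup le_sup_right ▸ Subgroup.mem_sup_left (Subgroup.mem_zpowers (g : X))
    · intro hg
      refine Equiv.ext fun o => Subtype.ext ?_
      obtain ⟨_, Q, hQ, rfl⟩ := o
      show (g : X) • orbit (P : Subgroup X) Q = orbit (P : Subgroup X) Q
      rw [himg _ g.2]
      exact orbit_eq_iff.2 ⟨⟨_, hg⟩, rfl⟩
  have hO : Nat.card O = 7 := by
    haveI := Fintype.ofFinite (Sylow 3 X)
    have hs : Finset.univ.filter (fun Q : Sylow 3 X => Q ≠ P) = Finset.univ.erase P := by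
      ext; simp
    have hcard := Finset.card_eq_sum_card_image (fun Q => orbit (P : Subgroup X) Q)
      (Finset.univ.filter fun Q : Sylow 3 X => Q ≠ P)
    rw [Finset.sum_congr rfl (g := fun _ => 3) ?_, Finset.sum_const, smul_eq_mul, hs,
      Finset.card_erase_of_mem (Finset.mem_univ P), Finset.card_univ, ← Nat.card_eq_fintype_card,
      hn, ← hs] at hcard
    · have : Nat.card O = ((Finset.univ.filter fun Q : Sylow 3 X => Q ≠ P).image
          fun Q => orbit (P : Subgroup X) Q).card := by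
        rw [← Nat.card_eq_finsetCard]
        exact Nat.card_congr (Equiv.subtypeEquivRight fun o => by
          simp [eq_comm (a := o)])
      omega
    · intro o ho
      obtain ⟨Q, hQ, rfl⟩ := Finset.mem_image.1 ho
      refine Eq.trans ?_ (orbit_three hn h3 (Finset.mem_filter.1 hQ).2)
      rw [← Set.ncard_coe_finset]
      congr 1
      ext R
      simp only [Finset.coe_filter, Finset.mem_filter, Finset.mem_univ, true_and,
        Set.mem_ofPred_eq]
      exact ⟨fun h => orbit_eq_iff.1 h.2, fun h =>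
        ⟨fun e => not_mem_orbit (Finset.mem_filter.1 hQ).2 (e ▸ h), orbit_eq_iff.2 h⟩⟩
  let e : O ≃ Fin 7 := Nat.equivFinOfCardPos (by rw [hO]; norm_num) |>.trans (finCongr hO)
  let ψ' : C →* Equiv.Perm (Fin 7) := e.permCongrHom.toMonoidHom.comp ψ
  have hker' : ψ'.ker = (P : Subgroup X).subgroupOf C := by
    rw [← hker]
    exact MonoidHom.ker_mulEquiv_comp ψ e.permCongrHom
  have hK : Nat.card ψ'.range = c := by
    have h1 := Subgroup.index_ker ψ'
    have h2 := Subgroup.card_mul_index ψ'.ker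
    rw [h1, hker', Nat.card_congr (Subgroup.subgroupOfEquivOfLe hPC).toEquiv, h3 P, hc] at h2
    omega
  by_cases h7 : 7 ∣ c
  · exact Or.inr (hK ▸ card_dvd_fourteen_of_seven_dvd ψ'.range (hK ▸ h7) (hK ▸ hc3))
  · left
    have h5040 : c ∣ 80 * 63 := by
      rw [← hK]
      refine (Subgroup.card_subgroup_dvd_card ψ'.range).trans (dvd_of_eq ?_)
      rw [Nat.card_eq_fintype_card, Fintype.card_perm, Fintype.card_fin]
      norm_num [Nat.factorial]
    refine Nat.Coprime.dvd_of_dvd_mul_right ?_ h5040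
    rw [show (63 : ℕ) = 3 ^ 2 * 7 by norm_num]
    exact Nat.Coprime.mul_right (((Nat.prime_three.coprime_iff_not_dvd.2 hc3).symm).pow_right 2)
      ((Nat.Prime.coprime_iff_not_dvd (by norm_num : Nat.Prime 7)).2 h7).symm

omit hfaith

/-- An element of order dividing 3 cannot normalize a subgroup of order 11. -/
theorem three_not_normalize (P : Sylow 3 X)
    (h11 : ¬ 11 ∣ Nat.card (Subgroup.normalizer ((P : Subgroup X) : Set X))) {R : Subgroup X}
    (hR : Nat.card R = 11) {g : X} (hg : g ^ 3 = 1) (hgR : g ∈ Subgroup.normalizer (R : Set X)) :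
    g = 1 := by
  by_contra hg1
  have hcen := mem_centralizer_of_normalizes hR (by norm_num) hg hgR
  obtain ⟨Q, hQ⟩ := exists_sylow_of_order_three hn h3 hg
  have hgQ : g • Q = Q := Sylow.smul_eq_iff_mem_normalizer.2 (le_normalizer hQ)
  have hle : R ≤ Subgroup.normalizer ((Q : Subgroup X) : Set X) := by
    intro r hr
    refine Sylow.smul_eq_iff_mem_normalizer.1 (fix_unique hn h3 hg hg1 ?_ hgQ)
    rw [← mul_smul, ← Subgroup.mem_centralizer_iff.1 hcen r hr, mul_smul, hgQ]
  apply h11
  have h1 := card_eq_mul hn h3 P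
  have h2 := card_eq_mul hn h3 Q
  have hd := Subgroup.card_dvd_of_le hle
  rw [hR] at hd
  rwa [show Nat.card (Subgroup.normalizer ((P : Subgroup X) : Set X)) =
    Nat.card (Subgroup.normalizer ((Q : Subgroup X) : Set X)) by omega]

include hfaith

/-- Summary of the orders. -/
theorem orders : ∃ c, Nat.card X = 132 * c ∧ ¬ 3 ∣ c ∧ ¬ 11 ∣ c ∧
    (∀ P : Sylow 3 X, Nat.card (Subgroup.centralizer ((P : Subgroup X) : Set X)) = 3 * c) ∧
    Nat.card (Sylow 11 X) = 12 ∧
    ∀ (R : Subgroup X), Nat.card R = 11 → ∀ g : X, g ^ 3 = 1 →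
      g ∈ Subgroup.normalizer (R : Set X) → g = 1 := by
  classical
  obtain ⟨P⟩ : Nonempty (Sylow 3 X) := inferInstance
  obtain ⟨c, hc, hc3, hcd⟩ := centralizer_card hn h3 hfaith P
  haveI : IsCyclic P := isCyclic_of_prime_card (h3 P)
  set N := Subgroup.normalizer ((P : Subgroup X) : Set X) with hN
  set C := Subgroup.centralizer ((P : Subgroup X) : Set X) with hC
  have he : C.relIndex N ∣ 2 := by
    have key := card_dvd_of_injective _ (QuotientGroup.kerLift_injective (P : Subgroup X).normalizerMonoidHom)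
    rwa [Subgroup.normalizerMonoidHom_ker, ← Subgroup.index, ← Subgroup.relIndex,
      ‹IsCyclic P›.card_mulAut, h3 P, Nat.totient_prime Nat.prime_three] at key
  have hNC : Nat.card N = 3 * c * C.relIndex N := by
    have h1 := Subgroup.relIndex_mul_relIndex ⊥ C N bot_le (Subgroup.centralizer_le_normalizer _)
    rw [Subgroup.relIndex_bot_left, Subgroup.relIndex_bot_left, hc] at h1
    exact h1.symm
  have hG := card_eq_mul hn h3 P
  rw [← hN] at hG
  have h11c : ¬ 11 ∣ c := fun h => by
    rcases hcd with h' | h' <;> exact absurd (h.trans h') (by norm_num)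
  have h11N : ¬ 11 ∣ Nat.card N := by
    rw [hNC]
    intro h
    rcases (Nat.Prime.dvd_mul (by norm_num : Nat.Prime 11)).1 h with h | h
    · rcases (Nat.Prime.dvd_mul (by norm_num : Nat.Prime 11)).1 h with h | h
      · norm_num at h
      · exact h11c h
    · exact absurd (h.trans he) (by norm_num)
  have hnorm : ∀ (R : Subgroup X), Nat.card R = 11 → ∀ g : X, g ^ 3 = 1 →
      g ∈ Subgroup.normalizer (R : Set X) → g = 1 := fun R hR g hg hgR =>
    three_not_normalize hn h3 P h11N hR hg hgR
  obtain ⟨R⟩ : Nonempty (Sylow 11 X) := inferInstance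
  have h11X : ¬ 11 ∣ 2 * Nat.card N := fun h =>
    (Nat.Prime.dvd_mul (by norm_num : Nat.Prime 11)).1 h |>.elim (by norm_num) h11N
  have hR : Nat.card R = 11 := by
    obtain ⟨j, hj⟩ := IsPGroup.iff_card.1 R.2
    have h1 : 11 ∣ Nat.card R := R.dvd_card_of_dvd_card ⟨2 * Nat.card N, by rw [← hG]; ring⟩
    have h2 : Nat.card R ∣ 11 * (2 * Nat.card N) := by
      rw [show 11 * (2 * Nat.card N) = Nat.card N * 22 by ring, hG]
      exact Subgroup.card_subgroup_dvd_card _
    rcases j with _ | _ | j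
    · rw [hj] at h1; norm_num at h1
    · rw [hj]; norm_num
    · exfalso
      rw [hj, pow_succ' 11 (j + 1)] at h2
      exact h11X ((dvd_pow_self 11 (by omega)).trans (Nat.dvd_of_mul_dvd_mul_left (by norm_num) h2))
  set NR := Subgroup.normalizer ((R : Subgroup X) : Set X)
  have h3NR : ¬ 3 ∣ Nat.card NR := by
    intro h
    obtain ⟨g, hg⟩ := exists_prime_orderOf_dvd_card' (G := NR) 3 h
    have := hnorm R hR g (by rw [← hg, ← Subgroup.orderOf_coe, pow_orderOf_eq_one]) g.2
    rw [← Subgroup.orderOf_coe, this, orderOf_one] at hg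
    norm_num at hg
  have hNRmul : Nat.card NR * Nat.card (Sylow 11 X) = Nat.card X := by
    rw [R.card_eq_index_normalizer]; exact Subgroup.card_mul_index NR
  have h3n : 3 ∣ Nat.card (Sylow 11 X) :=
    ((Nat.Prime.dvd_mul Nat.prime_three).1 (show 3 ∣ Nat.card NR * Nat.card (Sylow 11 X) by
      rw [hNRmul, ← hG, hNC]
      exact ⟨c * C.relIndex N * 22, by ring⟩)).resolve_left h3NR
  rcases (Nat.dvd_prime Nat.prime_two).1 he with e1 | e2
  · exfalso
    have hNle : N ≤ C := Subgroup.relIndex_eq_one.1 e1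
    have hco := MonoidHom.ker_transferSylow_isComplement' P hNle
    have hidx : (MonoidHom.transferSylow P hNle).ker.index = 3 := by
      rw [hco.symm.index_eq_card]; exact h3 P
    have h := SylowNumber.card_sylow_normal (p := 11) (MonoidHom.transferSylow P hNle).ker
      (by rw [hidx]; norm_num)
    have hmc := Subgroup.card_mul_index (MonoidHom.transferSylow P hNle).ker
    rw [hidx, ← hG, hNC, e1] at hmc
    have hd := SylowNumber.card_sylow_dvd_of_card (G := (MonoidHom.transferSylow P hNle).ker)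
      (p := 11) (2 * c) 1
      (fun hh => ((Nat.Prime.dvd_mul (by norm_num : Nat.Prime 11)).1 hh).elim (by norm_num) h11c)
      (by omega)
    rw [h] at hd
    exact ((Nat.Prime.dvd_mul Nat.prime_three).1 (h3n.trans hd)).elim (by norm_num) hc3
  refine ⟨c, by rw [← hG, hNC, e2]; ring, hc3, h11c, fun Q => ?_, ?_, hnorm⟩
  · obtain ⟨g, rfl⟩ := MulAction.exists_smul_eq X P Q
    rw [← hc]
    refine Nat.card_congr (Equiv.subtypeEquiv ((MulAut.conj g).toEquiv) ?_).symm
    intro x
    simp only [hC, Subgroup.mem_centralizer_iff]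
    constructor
    · intro hx h hh
      rw [SetLike.mem_coe, Sylow.coe_subgroup_smul, Subgroup.mem_pointwise_smul_iff_inv_smul_mem,
        ← map_inv, MulAut.smul_def, MulAut.conj_apply, inv_inv] at hh
      have := hx _ hh
      have h2 := congrArg (fun w => g * w * g⁻¹) this
      simpa [mul_assoc] using h2
    · intro hx h hh
      have hh' : g * h * g⁻¹ ∈ ((g • P : Sylow 3 X) : Subgroup X) := by
        rw [Sylow.coe_subgroup_smul]
        exact ⟨h, hh, rfl⟩
      have := hx _ hh'
      have h2 := congrArg (fun w => g⁻¹ * w * g) this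
      simpa [mul_assoc] using h2
  · have hd := SylowNumber.card_sylow_dvd_of_card (G := X) (p := 11) (12 * c) 1
      (fun hh => ((Nat.Prime.dvd_mul (by norm_num : Nat.Prime 11)).1 hh).elim (by norm_num) h11c)
      (by rw [← hG, hNC, e2]; ring)
    have hmod : Nat.card (Sylow 11 X) % 11 = 1 := card_sylow_modEq_one 11 X
    obtain ⟨t, ht⟩ : ∃ t, Nat.card (Sylow 11 X) = 11 * t + 1 :=
      ⟨Nat.card (Sylow 11 X) / 11, by omega⟩
    rw [ht] at h3n hd
    rw [ht]
    rcases hcd with h | h
    · have h960 := hd.trans (Nat.mul_dvd_mul_left 12 h)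
      have : t ≤ 87 := by have := Nat.le_of_dvd (by norm_num) h960; omega
      interval_cases t <;> first | rfl | (norm_num at h3n <;> norm_num at h960)
    · have h168 := hd.trans (Nat.mul_dvd_mul_left 12 h)
      have : t ≤ 15 := by have := Nat.le_of_dvd (by norm_num) h168; omega
      interval_cases t <;> first | rfl | (norm_num at h3n <;> norm_num at h168)

end CfsgLib.SylowNumber22
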